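import Cfsg.Agent.Lib.CosetEnum.F24.A
import Cfsg.Agent.Lib.CosetEnum.F24.B
set_option autoImplicit false
set_option maxRecDepth 100000
namespace H18.Q24
open H54 (Tr force band)
open H18.TC
noncomputable def F : Tr := (.node (nat_lit 28775) (.node (nat_lit 14387) (.node (nat_lit 7193) (.node (nat_lit 3596) (.node (nat_lit 1797) (.node (nat_lit 898) (.node (nat_lit 448) (.node (nat_lit 223) (.node (nat_lit 111) F_511 F_510) (.node (nat_lit 335) F_509 F_508)) (.node (nat_lit 673) (.node (nat_lit 560) F_507 F_506) (.node (nat_lit 785) F_505 F_504))) (.node (nat_lit 1347) (.node (nat_lit 1122) (.node (nat_lit 1010) F_503 F_502) (.node (nat_lit 1234) F_501 F_500)) (.node (nat_lit 1572) (.node (nat_lit 1459) F_499 F_498) (.node (nat_lit 1684) F_497 F_496)))) (.node (nat_lit 2696) (.node (nat_lit 2246) (.node (nat_lit 2021) (.node (nat_lit 1909) F_495 F_494) (.node (nat_lit 2133) F_493 F_492)) (.node (nat_lit 2471) (.node (nat_lit 2358) F_491 F_490) (.node (nat_lit 2583) F_489 F_488))) (.node (nat_lit 3146) (.node (nat_lit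 2921) (.node (nat_lit 2808) F_487 F_486) (.node (nat_lit 3033) F_485 F_484)) (.node (nat_lit 3371) (.node (nat_lit 3258) F_483 F_482) (.node (nat_lit 3483) F_481 F_480))))) (.node (nat_lit 5394) (.node (nat_lit 4495) (.node (nat_lit 4045) (.node (nat_lit 3820) (.node (nat_lit 3708) F_479 F_478) (.node (nat_lit 3932) F_477 F_476)) (.node (nat_lit 4270) (.node (nat_lit 4157) F_475 F_474) (.node (nat_lit 4382) F_473 F_472))) (.node (nat_lit 4944) (.node (nat_lit 4719) (.node (nat_lit 4607) F_471 F_470) (.node (nat_lit 4831) F_469 F_468)) (.node (nat_lit 5169) (.node (nat_lit 5056) F_467 F_466) (.node (nat_lit 5281) F_465 F_464)))) (.node (nat_lit 6293) (.node (nat_lit 5843) (.node (nat_lit 5618) (.node (nat_lit 5506) F_463 F_462) (.node (nat_lit 5730) F_461 F_460)) (.node (nat_lit 6068) (.node (nat_lit 5955) F_459 F_458) (.node (nat_lit 6180) F_457 F_456))) (.node (nat_lit 6743) (.node (nat_lit 6518) (.node (nat_lit 6405) F_455 F_454) (.node (nat_lit 6630) F_453 F_452)) (.node (nat_lit 6968) (.node (nat_lit 6855)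 F_451 F_450) (.node (nat_lit 7080) F_449 F_448)))))) (.node (nat_lit 10790) (.node (nat_lit 8991) (.node (nat_lit 8092) (.node (nat_lit 7642) (.node (nat_lit 7417) (.node (nat_lit 7305) F_447 F_446) (.node (nat_lit 7529) F_445 F_444)) (.node (nat_lit 7867) (.node (nat_lit 7754) F_443 F_442) (.node (nat_lit 7979) F_441 F_440))) (.node (nat_lit 8541) (.node (nat_lit 8316) (.node (nat_lit 8204) F_439 F_438) (.node (nat_lit 8428) F_437 F_436)) (.node (nat_lit 8766) (.node (nat_lit 8653) F_435 F_434) (.node (nat_lit 8878) F_433 F_432)))) (.node (nat_lit 9890) (.node (nat_lit 9440) (.node (nat_lit 9215) (.node (nat_lit 9103) F_431 F_430) (.node (nat_lit 9327) F_429 F_428)) (.node (nat_lit 9665) (.node (nat_lit 9552) F_427 F_426) (.node (nat_lit 9777) F_425 F_424))) (.node (nat_lit 10340) (.node (nat_lit 10115) (.node (nat_lit 10002) F_423 F_422) (.node (nat_lit 10227) F_421 F_420)) (.node (nat_lit 10565) (.node (nat_lit 10452) F_419 F_418) (.node (nat_lit 10677) F_417 F_416))))) (.node (nat_lit 12588) (.node (nat_lit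 11689) (.node (nat_lit 11239) (.node (nat_lit 11014) (.node (nat_lit 10902) F_415 F_414) (.node (nat_lit 11126) F_413 F_412)) (.node (nat_lit 11464) (.node (nat_lit 11351) F_411 F_410) (.node (nat_lit 11576) F_409 F_408))) (.node (nat_lit 12138) (.node (nat_lit 11913) (.node (nat_lit 11801) F_407 F_406) (.node (nat_lit 12025) F_405 F_404)) (.node (nat_lit 12363) (.node (nat_lit 12250) F_403 F_402) (.node (nat_lit 12475) F_401 F_400)))) (.node (nat_lit 13487) (.node (nat_lit 13037) (.node (nat_lit 12812) (.node (nat_lit 12700) F_399 F_398) (.node (nat_lit 12924) F_397 F_396)) (.node (nat_lit 13262) (.node (nat_lit 13149) F_395 F_394) (.node (nat_lit 13374) F_393 F_392))) (.node (nat_lit 13937) (.node (nat_lit 13712) (.node (nat_lit 13599) F_391 F_390) (.node (nat_lit 13824) F_389 F_388)) (.node (nat_lit 14162) (.node (nat_lit 14049) F_387 F_386) (.node (nat_lit 14274) F_385 F_384))))))) (.node (nat_lit 21581) (.node (nat_lit 17984) (.node (nat_lit 16185) (.node (nat_lit 15286) (.node (nat_lit 14836) (.node (nat_lit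 14611) (.node (nat_lit 14499) F_383 F_382) (.node (nat_lit 14723) F_381 F_380)) (.node (nat_lit 15061) (.node (nat_lit 14948) F_379 F_378) (.node (nat_lit 15173) F_377 F_376))) (.node (nat_lit 15735) (.node (nat_lit 15510) (.node (nat_lit 15398) F_375 F_374) (.node (nat_lit 15622) F_373 F_372)) (.node (nat_lit 15960) (.node (nat_lit 15847) F_371 F_370) (.node (nat_lit 16072) F_369 F_368)))) (.node (nat_lit 17084) (.node (nat_lit 16634) (.node (nat_lit 16409) (.node (nat_lit 16297) F_367 F_366) (.node (nat_lit 16521) F_365 F_364)) (.node (nat_lit 16859) (.node (nat_lit 16746) F_363 F_362) (.node (nat_lit 16971) F_361 F_360))) (.node (nat_lit 17534) (.node (nat_lit 17309) (.node (nat_lit 17196) F_359 F_358) (.node (nat_lit 17421) F_357 F_356)) (.node (nat_lit 17759) (.node (nat_lit 17646) F_355 F_354) (.node (nat_lit 17871) F_353 F_352))))) (.node (nat_lit 19782) (.node (nat_lit 18883) (.node (nat_lit 18433) (.node (nat_lit 18208) (.node (nat_lit 18096) F_351 F_350) (.node (nat_lit 18320) F_349 F_348)) (.node (nat_lit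 18658) (.node (nat_lit 18545) F_347 F_346) (.node (nat_lit 18770) F_345 F_344))) (.node (nat_lit 19332) (.node (nat_lit 19107) (.node (nat_lit 18995) F_343 F_342) (.node (nat_lit 19219) F_341 F_340)) (.node (nat_lit 19557) (.node (nat_lit 19444) F_339 F_338) (.node (nat_lit 19669) F_337 F_336)))) (.node (nat_lit 20681) (.node (nat_lit 20231) (.node (nat_lit 20006) (.node (nat_lit 19894) F_335 F_334) (.node (nat_lit 20118) F_333 F_332)) (.node (nat_lit 20456) (.node (nat_lit 20343) F_331 F_330) (.node (nat_lit 20568) F_329 F_328))) (.node (nat_lit 21131) (.node (nat_lit 20906) (.node (nat_lit 20793) F_327 F_326) (.node (nat_lit 21018) F_325 F_324)) (.node (nat_lit 21356) (.node (nat_lit 21243) F_323 F_322) (.node (nat_lit 21468) F_321 F_320)))))) (.node (nat_lit 25178) (.node (nat_lit 23379) (.node (nat_lit 22480) (.node (nat_lit 22030) (.node (nat_lit 21805) (.node (nat_lit 21693) F_319 F_318) (.node (nat_lit 21917) F_317 F_316)) (.node (nat_lit 22255) (.node (nat_lit 22142) F_315 F_314) (.node (nat_lit 22367)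 F_313 F_312))) (.node (nat_lit 22929) (.node (nat_lit 22704) (.node (nat_lit 22592) F_311 F_310) (.node (nat_lit 22816) F_309 F_308)) (.node (nat_lit 23154) (.node (nat_lit 23041) F_307 F_306) (.node (nat_lit 23266) F_305 F_304)))) (.node (nat_lit 24278) (.node (nat_lit 23828) (.node (nat_lit 23603) (.node (nat_lit 23491) F_303 F_302) (.node (nat_lit 23715) F_301 F_300)) (.node (nat_lit 24053) (.node (nat_lit 23940) F_299 F_298) (.node (nat_lit 24165) F_297 F_296))) (.node (nat_lit 24728) (.node (nat_lit 24503) (.node (nat_lit 24390) F_295 F_294) (.node (nat_lit 24615) F_293 F_292)) (.node (nat_lit 24953) (.node (nat_lit 24840) F_291 F_290) (.node (nat_lit 25065) F_289 F_288))))) (.node (nat_lit 26976) (.node (nat_lit 26077) (.node (nat_lit 25627) (.node (nat_lit 25402) (.node (nat_lit 25290) F_287 F_286) (.node (nat_lit 25514) F_285 F_284)) (.node (nat_lit 25852) (.node (nat_lit 25739) F_283 F_282) (.node (nat_lit 25964) F_281 F_280))) (.node (nat_lit 26526) (.node (nat_lit 26301) (.node (nat_lit 26189) F_279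 F_278) (.node (nat_lit 26413) F_277 F_276)) (.node (nat_lit 26751) (.node (nat_lit 26638) F_275 F_274) (.node (nat_lit 26863) F_273 F_272)))) (.node (nat_lit 27875) (.node (nat_lit 27425) (.node (nat_lit 27200) (.node (nat_lit 27088) F_271 F_270) (.node (nat_lit 27312) F_269 F_268)) (.node (nat_lit 27650) (.node (nat_lit 27537) F_267 F_266) (.node (nat_lit 27762) F_265 F_264))) (.node (nat_lit 28325) (.node (nat_lit 28100) (.node (nat_lit 27987) F_263 F_262) (.node (nat_lit 28212) F_261 F_260)) (.node (nat_lit 28550) (.node (nat_lit 28437) F_259 F_258) (.node (nat_lit 28662) F_257 F_256)))))))) (.node (nat_lit 43163) (.node (nat_lit 35969) (.node (nat_lit 32372) (.node (nat_lit 30573) (.node (nat_lit 29674) (.node (nat_lit 29224) (.node (nat_lit 28999) (.node (nat_lit 28887) F_255 F_254) (.node (nat_lit 29111) F_253 F_252)) (.node (nat_lit 29449) (.node (nat_lit 29336) F_251 F_250) (.node (nat_lit 29561) F_249 F_248))) (.node (nat_lit 30123) (.node (nat_lit 29898) (.node (nat_lit 29786) F_247 F_246) (.node (nat_lit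 30010) F_245 F_244)) (.node (nat_lit 30348) (.node (nat_lit 30235) F_243 F_242) (.node (nat_lit 30460) F_241 F_240)))) (.node (nat_lit 31472) (.node (nat_lit 31022) (.node (nat_lit 30797) (.node (nat_lit 30685) F_239 F_238) (.node (nat_lit 30909) F_237 F_236)) (.node (nat_lit 31247) (.node (nat_lit 31134) F_235 F_234) (.node (nat_lit 31359) F_233 F_232))) (.node (nat_lit 31922) (.node (nat_lit 31697) (.node (nat_lit 31584) F_231 F_230) (.node (nat_lit 31809) F_229 F_228)) (.node (nat_lit 32147) (.node (nat_lit 32034) F_227 F_226) (.node (nat_lit 32259) F_225 F_224))))) (.node (nat_lit 34170) (.node (nat_lit 33271) (.node (nat_lit 32821) (.node (nat_lit 32596) (.node (nat_lit 32484) F_223 F_222) (.node (nat_lit 32708) F_221 F_220)) (.node (nat_lit 33046) (.node (nat_lit 32933) F_219 F_218) (.node (nat_lit 33158) F_217 F_216))) (.node (nat_lit 33720) (.node (nat_lit 33495) (.node (nat_lit 33383) F_215 F_214) (.node (nat_lit 33607) F_213 F_212)) (.node (nat_lit 33945) (.node (nat_lit 33832) F_211 F_210) (.node (nat_lit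 34057) F_209 F_208)))) (.node (nat_lit 35069) (.node (nat_lit 34619) (.node (nat_lit 34394) (.node (nat_lit 34282) F_207 F_206) (.node (nat_lit 34506) F_205 F_204)) (.node (nat_lit 34844) (.node (nat_lit 34731) F_203 F_202) (.node (nat_lit 34956) F_201 F_200))) (.node (nat_lit 35519) (.node (nat_lit 35294) (.node (nat_lit 35181) F_199 F_198) (.node (nat_lit 35406) F_197 F_196)) (.node (nat_lit 35744) (.node (nat_lit 35631) F_195 F_194) (.node (nat_lit 35856) F_193 F_192)))))) (.node (nat_lit 39566) (.node (nat_lit 37767) (.node (nat_lit 36868) (.node (nat_lit 36418) (.node (nat_lit 36193) (.node (nat_lit 36081) F_191 F_190) (.node (nat_lit 36305) F_189 F_188)) (.node (nat_lit 36643) (.node (nat_lit 36530) F_187 F_186) (.node (nat_lit 36755) F_185 F_184))) (.node (nat_lit 37317) (.node (nat_lit 37092) (.node (nat_lit 36980) F_183 F_182) (.node (nat_lit 37204) F_181 F_180)) (.node (nat_lit 37542) (.node (nat_lit 37429) F_179 F_178) (.node (nat_lit 37654) F_177 F_176)))) (.node (nat_lit 38666) (.node (nat_lit 38216)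 (.node (nat_lit 37991) (.node (nat_lit 37879) F_175 F_174) (.node (nat_lit 38103) F_173 F_172)) (.node (nat_lit 38441) (.node (nat_lit 38328) F_171 F_170) (.node (nat_lit 38553) F_169 F_168))) (.node (nat_lit 39116) (.node (nat_lit 38891) (.node (nat_lit 38778) F_167 F_166) (.node (nat_lit 39003) F_165 F_164)) (.node (nat_lit 39341) (.node (nat_lit 39228) F_163 F_162) (.node (nat_lit 39453) F_161 F_160))))) (.node (nat_lit 41364) (.node (nat_lit 40465) (.node (nat_lit 40015) (.node (nat_lit 39790) (.node (nat_lit 39678) F_159 F_158) (.node (nat_lit 39902) F_157 F_156)) (.node (nat_lit 40240) (.node (nat_lit 40127) F_155 F_154) (.node (nat_lit 40352) F_153 F_152))) (.node (nat_lit 40914) (.node (nat_lit 40689) (.node (nat_lit 40577) F_151 F_150) (.node (nat_lit 40801) F_149 F_148)) (.node (nat_lit 41139) (.node (nat_lit 41026) F_147 F_146) (.node (nat_lit 41251) F_145 F_144)))) (.node (nat_lit 42263) (.node (nat_lit 41813) (.node (nat_lit 41588) (.node (nat_lit 41476) F_143 F_142) (.node (nat_lit 41700) F_141 F_140))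 (.node (nat_lit 42038) (.node (nat_lit 41925) F_139 F_138) (.node (nat_lit 42150) F_137 F_136))) (.node (nat_lit 42713) (.node (nat_lit 42488) (.node (nat_lit 42375) F_135 F_134) (.node (nat_lit 42600) F_133 F_132)) (.node (nat_lit 42938) (.node (nat_lit 42825) F_131 F_130) (.node (nat_lit 43050) F_129 F_128))))))) (.node (nat_lit 50357) (.node (nat_lit 46760) (.node (nat_lit 44961) (.node (nat_lit 44062) (.node (nat_lit 43612) (.node (nat_lit 43387) (.node (nat_lit 43275) F_127 F_126) (.node (nat_lit 43499) F_125 F_124)) (.node (nat_lit 43837) (.node (nat_lit 43724) F_123 F_122) (.node (nat_lit 43949) F_121 F_120))) (.node (nat_lit 44511) (.node (nat_lit 44286) (.node (nat_lit 44174) F_119 F_118) (.node (nat_lit 44398) F_117 F_116)) (.node (nat_lit 44736) (.node (nat_lit 44623) F_115 F_114) (.node (nat_lit 44848) F_113 F_112)))) (.node (nat_lit 45860) (.node (nat_lit 45410) (.node (nat_lit 45185) (.node (nat_lit 45073) F_111 F_110) (.node (nat_lit 45297) F_109 F_108)) (.node (nat_lit 45635) (.node (nat_lit 45522)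 F_107 F_106) (.node (nat_lit 45747) F_105 F_104))) (.node (nat_lit 46310) (.node (nat_lit 46085) (.node (nat_lit 45972) F_103 F_102) (.node (nat_lit 46197) F_101 F_100)) (.node (nat_lit 46535) (.node (nat_lit 46422) F_99 F_98) (.node (nat_lit 46647) F_97 F_96))))) (.node (nat_lit 48558) (.node (nat_lit 47659) (.node (nat_lit 47209) (.node (nat_lit 46984) (.node (nat_lit 46872) F_95 F_94) (.node (nat_lit 47096) F_93 F_92)) (.node (nat_lit 47434) (.node (nat_lit 47321) F_91 F_90) (.node (nat_lit 47546) F_89 F_88))) (.node (nat_lit 48108) (.node (nat_lit 47883) (.node (nat_lit 47771) F_87 F_86) (.node (nat_lit 47995) F_85 F_84)) (.node (nat_lit 48333) (.node (nat_lit 48220) F_83 F_82) (.node (nat_lit 48445) F_81 F_80)))) (.node (nat_lit 49457) (.node (nat_lit 49007) (.node (nat_lit 48782) (.node (nat_lit 48670) F_79 F_78) (.node (nat_lit 48894) F_77 F_76)) (.node (nat_lit 49232) (.node (nat_lit 49119) F_75 F_74) (.node (nat_lit 49344) F_73 F_72))) (.node (nat_lit 49907) (.node (nat_lit 49682) (.node (nat_lit 49569)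 F_71 F_70) (.node (nat_lit 49794) F_69 F_68)) (.node (nat_lit 50132) (.node (nat_lit 50019) F_67 F_66) (.node (nat_lit 50244) F_65 F_64)))))) (.node (nat_lit 53954) (.node (nat_lit 52155) (.node (nat_lit 51256) (.node (nat_lit 50806) (.node (nat_lit 50581) (.node (nat_lit 50469) F_63 F_62) (.node (nat_lit 50693) F_61 F_60)) (.node (nat_lit 51031) (.node (nat_lit 50918) F_59 F_58) (.node (nat_lit 51143) F_57 F_56))) (.node (nat_lit 51705) (.node (nat_lit 51480) (.node (nat_lit 51368) F_55 F_54) (.node (nat_lit 51592) F_53 F_52)) (.node (nat_lit 51930) (.node (nat_lit 51817) F_51 F_50) (.node (nat_lit 52042) F_49 F_48)))) (.node (nat_lit 53054) (.node (nat_lit 52604) (.node (nat_lit 52379) (.node (nat_lit 52267) F_47 F_46) (.node (nat_lit 52491) F_45 F_44)) (.node (nat_lit 52829) (.node (nat_lit 52716) F_43 F_42) (.node (nat_lit 52941) F_41 F_40))) (.node (nat_lit 53504) (.node (nat_lit 53279) (.node (nat_lit 53166) F_39 F_38) (.node (nat_lit 53391) F_37 F_36)) (.node (nat_lit 53729) (.node (nat_lit 53616) F_35 F_34)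 (.node (nat_lit 53841) F_33 F_32))))) (.node (nat_lit 55752) (.node (nat_lit 54853) (.node (nat_lit 54403) (.node (nat_lit 54178) (.node (nat_lit 54066) F_31 F_30) (.node (nat_lit 54290) F_29 F_28)) (.node (nat_lit 54628) (.node (nat_lit 54515) F_27 F_26) (.node (nat_lit 54740) F_25 F_24))) (.node (nat_lit 55302) (.node (nat_lit 55077) (.node (nat_lit 54965) F_23 F_22) (.node (nat_lit 55189) F_21 F_20)) (.node (nat_lit 55527) (.node (nat_lit 55414) F_19 F_18) (.node (nat_lit 55639) F_17 F_16)))) (.node (nat_lit 56651) (.node (nat_lit 56201) (.node (nat_lit 55976) (.node (nat_lit 55864) F_15 F_14) (.node (nat_lit 56088) F_13 F_12)) (.node (nat_lit 56426) (.node (nat_lit 56313) F_11 F_10) (.node (nat_lit 56538) F_9 F_8))) (.node (nat_lit 57101) (.node (nat_lit 56876) (.node (nat_lit 56763) F_7 F_6) (.node (nat_lit 56988) F_5 F_4)) (.node (nat_lit 57326) (.node (nat_lit 57213) F_3 F_2) (.node (nat_lit 57438) F_1 F_0)))))))))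
noncomputable def fget (k fx : ℕ) : ℕ := F.get (Nat.add k fx)
/-- column `x` of the final table -/
noncomputable def tab (x u : ℕ) : ℕ := ft fget (nat_lit 6) (nat_lit 63) (nat_lit 19) (nat_lit 524287) (Nat.mul x (nat_lit 4796)) u
end H18.Q24
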