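import Cfsg.Agent.Lib.CosetEnum.Hur

/-!
# Certificates for the relations of Fi24 (helper18; tools/coset/gen/g24d.py)
-/

set_option autoImplicit false
set_option maxRecDepth 100000

namespace H18.Fi24

open H18.TC

/-- the Coxeter relators of Y542 -/
def RC : List (List ℕ) := [[0, 0], [0, 1, 0, 1, 0, 1], [0, 2, 0, 2], [0, 3, 0, 3], [0, 4, 0, 4], [0, 5, 0, 5], [0, 6, 0, 6], [0, 7, 0, 7], [0, 8, 0, 8], [0, 9, 0, 9], [0, 10, 0, 10], [0, 11, 0, 11], [1, 1], [1, 2, 1, 2, 1, 2], [1, 3, 1, 3], [1, 4, 1, 4], [1, 5, 1, 5], [1, 6, 1, 6], [1, 7, 1, 7], [1, 8, 1, 8], [1, 9, 1, 9], [1, 10, 1, 10], [1, 11, 1, 11], [2, 2], [2, 3, 2, 3, 2, 3], [2, 4, 2, 4], [2, 5, 2, 5], [2, 6, 2, 6], [2, 7, 2, 7], [2, 8, 2, 8], [2, 9, 2, 9], [2, 10, 2, 10], [2, 11, 2, 11], [3, 3], [3, 4, 3, 4, 3, 4], [3, 5, 3, 5], [3, 6, 3, 6], [3, 7, 3, 7], [3, 8,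 3, 8], [3, 9, 3, 9], [3, 10, 3, 10], [3, 11, 3, 11], [4, 4], [4, 5, 4, 5, 4, 5], [4, 6, 4, 6], [4, 7, 4, 7], [4, 8, 4, 8], [4, 9, 4, 9], [4, 10, 4, 10], [4, 11, 4, 11], [5, 5], [5, 6, 5, 6, 5, 6], [5, 7, 5, 7], [5, 8, 5, 8], [5, 9, 5, 9], [5, 10, 5, 10, 5, 10], [5, 11, 5, 11], [6, 6], [6, 7, 6, 7, 6, 7], [6, 8, 6, 8], [6, 9, 6, 9], [6, 10, 6, 10], [6, 11, 6, 11], [7, 7], [7, 8, 7, 8, 7, 8], [7, 9, 7, 9], [7, 10, 7, 10], [7, 11, 7, 11], [8, 8], [8, 9, 8, 9, 8, 9], [8, 10, 8, 10], [8, 11, 8, 11], [9, 9], [9, 10, 9, 10], [9, 11, 9, 11], [10, 10], [10, 11, 10, 11, 10, 11], [11, 11]]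
def vk0 : List (ℕ × ℕ × ℕ) := [(0, 24, 0), (5, 2, 0), (3, 26, 0)]
def vk2 : List (ℕ × ℕ × ℕ) := [(0, 24, 0), (3, 4, 0), (5, 26, 1), (3, 2, 1), (4, 4, 1)]
def vkk : List (ℕ × ℕ × ℕ) := [(0, 24, 0), (5, 2, 0), (3, 26, 0), (4, 4, 0), (6, 26, 1), (4, 2, 1)]
def vkz : List (ℕ × ℕ × ℕ) := [(0, 24, 0), (5, 28, 1), (3, 4, 1), (4, 6, 1), (4, 48, 0), (5, 28, 0), (2, 28, 1), (4, 26, 0)]
def hsp0 : List ℕ := [nat_lit 5, nat_lit 0x20, nat_lit 0x30, nat_lit 0x38, nat_lit 0x40, nat_lit 0x30, nat_lit 0x48, nat_lit 0x50, nat_lit 0x30, nat_lit 0x28, nat_lit 0x20, nat_lit 0x30, nat_lit 0x38, nat_lit 0x40, nat_lit 0x30, nat_lit 0x48, nat_lit 0x50, nat_lit 0x30, nat_lit 0x28, nat_lit 0x20, nat_lit 0x30, nat_lit 0x38, nat_lit 0x40, nat_lit 0x30, nat_lit 0x48, nat_lit 0x50, nat_lit 0x30, nat_lit 0x28, nat_lit 0x20, nat_lit 0x30, nat_lit 0x38,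 nat_lit 0x40, nat_lit 0x30, nat_lit 0x48, nat_lit 0x50, nat_lit 0x30, nat_lit 0x28, nat_lit 0x20, nat_lit 0x30, nat_lit 0x38, nat_lit 0x40, nat_lit 0x30, nat_lit 0x48, nat_lit 0x50, nat_lit 0x30, nat_lit 2, nat_lit 4, nat_lit 4, nat_lit 4, nat_lit 4, nat_lit 4, nat_lit 4, nat_lit 4, nat_lit 4, nat_lit 4, nat_lit 4, nat_lit 4, nat_lit 4, nat_lit 4, nat_lit 4, nat_lit 4, nat_lit 4, nat_lit 4, nat_lit 4, nat_lit 4, nat_lit 4, nat_lit 4, nat_lit 4, nat_lit 4, nat_lit 4, nat_lit 4, nat_lit 4, nat_lit 4, nat_lit 4, nat_lit 4, nat_lit 4, nat_lit 4, nat_lit 4, nat_lit 4, nat_lit 4, nat_lit 4, nat_lit 4, nat_lit 4, nat_lit 4, nat_lit 4, nat_lit 4, nat_lit 4, nat_lit 4, nat_lit 4, nat_lit 4, nat_lit 4, nat_lit 0x20, nat_lit 2, nat_lit 5, nat_lit 5, nat_lit 5, nat_lit 5, nat_lit 5, nat_lit 5, nat_lit 5, nat_lit 5, nat_lit 5, nat_lit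 5, nat_lit 5, nat_lit 5, nat_lit 5, nat_lit 5, nat_lit 5, nat_lit 5, nat_lit 5, nat_lit 5, nat_lit 5, nat_lit 5, nat_lit 5, nat_lit 5, nat_lit 5, nat_lit 5, nat_lit 5, nat_lit 5, nat_lit 5, nat_lit 5, nat_lit 5, nat_lit 5, nat_lit 5, nat_lit 5, nat_lit 5, nat_lit 5, nat_lit 5, nat_lit 5, nat_lit 5, nat_lit 5, nat_lit 5, nat_lit 5, nat_lit 5, nat_lit 0x20, nat_lit 2, nat_lit 4, nat_lit 4, nat_lit 4, nat_lit 4, nat_lit 4, nat_lit 4, nat_lit 4, nat_lit 4, nat_lit 0x30, nat_lit 0x38, nat_lit 0x40, nat_lit 0x30, nat_lit 0x48, nat_lit 0x50, nat_lit 2, nat_lit 4, nat_lit 4, nat_lit 4, nat_lit 4, nat_lit 4, nat_lit 4, nat_lit 0x38, nat_lit 0x40, nat_lit 0x30, nat_lit 0x48, nat_lit 0x50, nat_lit 0x38, nat_lit 2, nat_lit 4, nat_lit 4, nat_lit 4, nat_lit 4, nat_lit 4, nat_lit 4, nat_lit 4, nat_lit 4, nat_lit 4, nat_lit 0x30, nat_lit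 0x28, nat_lit 0x38, nat_lit 0x40, nat_lit 0x30, nat_lit 0x48, nat_lit 0x50, nat_lit 0x38, nat_lit 0x30, nat_lit 0x48, nat_lit 0x50, nat_lit 2, nat_lit 4, nat_lit 4, nat_lit 4, nat_lit 4, nat_lit 4, nat_lit 4, nat_lit 4, nat_lit 4, nat_lit 4, nat_lit 4, nat_lit 4, nat_lit 4, nat_lit 4, nat_lit 4, nat_lit 0x30, nat_lit 0x48, nat_lit 0x30, nat_lit 0x28, nat_lit 0x38, nat_lit 0x40, nat_lit 0x30, nat_lit 0x48, nat_lit 0x50, nat_lit 0x38, nat_lit 0x30, nat_lit 0x48, nat_lit 2, nat_lit 4, nat_lit 4, nat_lit 4, nat_lit 4, nat_lit 4, nat_lit 4, nat_lit 4, nat_lit 4, nat_lit 4, nat_lit 4, nat_lit 4, nat_lit 4, nat_lit 0x48, nat_lit 0x30, nat_lit 0x28, nat_lit 0x38, nat_lit 0x40, nat_lit 0x30, nat_lit 0x48, nat_lit 0x50, nat_lit 0x38, nat_lit 0x30, nat_lit 0x48, nat_lit 0x28, nat_lit 0x20, nat_lit 0x30, nat_lit 0x38, nat_lit 0x40,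 nat_lit 2, nat_lit 4, nat_lit 4, nat_lit 4, nat_lit 4, nat_lit 4, nat_lit 4, nat_lit 4, nat_lit 4, nat_lit 4, nat_lit 4, nat_lit 4, nat_lit 4, nat_lit 4, nat_lit 4, nat_lit 4, nat_lit 4, nat_lit 4, nat_lit 0x48, nat_lit 0x30, nat_lit 0x28, nat_lit 0x38, nat_lit 0x40, nat_lit 0x30, nat_lit 0x48, nat_lit 0x50, nat_lit 0x38, nat_lit 0x30, nat_lit 0x48, nat_lit 0x28, nat_lit 0x20, nat_lit 0x30, nat_lit 0x38, nat_lit 0x40, nat_lit 2, nat_lit 4, nat_lit 4, nat_lit 4, nat_lit 4, nat_lit 4, nat_lit 4, nat_lit 4, nat_lit 4, nat_lit 4, nat_lit 4, nat_lit 4, nat_lit 4, nat_lit 4, nat_lit 4, nat_lit 4, nat_lit 4, nat_lit 4, nat_lit 0x48, nat_lit 0x30, nat_lit 0x28, nat_lit 0x38, nat_lit 0x40, nat_lit 0x30, nat_lit 0x48, nat_lit 0x50, nat_lit 0x38, nat_lit 0x30, nat_lit 0x48, nat_lit 0x28, nat_lit 0x20, nat_lit 0x30, nat_lit 0x38,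 nat_lit 0x40, nat_lit 0x50, nat_lit 2, nat_lit 4, nat_lit 4, nat_lit 4, nat_lit 4, nat_lit 4, nat_lit 4, nat_lit 4, nat_lit 4, nat_lit 4, nat_lit 4, nat_lit 4, nat_lit 4, nat_lit 4, nat_lit 4, nat_lit 4, nat_lit 4, nat_lit 4, nat_lit 4, nat_lit 4, nat_lit 4, nat_lit 4, nat_lit 4, nat_lit 4, nat_lit 4, nat_lit 0x30, nat_lit 0x48, nat_lit 0x50, nat_lit 0x30, nat_lit 0x28, nat_lit 0x20, nat_lit 0x48, nat_lit 0x30, nat_lit 0x28, nat_lit 0x38, nat_lit 0x40, nat_lit 0x30, nat_lit 0x48, nat_lit 0x50, nat_lit 0x38, nat_lit 0x30, nat_lit 0x48, nat_lit 0x28, nat_lit 0x20, nat_lit 0x30, nat_lit 0x38, nat_lit 0x40, nat_lit 2, nat_lit 4, nat_lit 4, nat_lit 4, nat_lit 4, nat_lit 4, nat_lit 4, nat_lit 4, nat_lit 4, nat_lit 4, nat_lit 4, nat_lit 4, nat_lit 4, nat_lit 4, nat_lit 4, nat_lit 4, nat_lit 4, nat_lit 4, nat_lit 4, nat_lit 4,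 nat_lit 4, nat_lit 4, nat_lit 4, nat_lit 0x48, nat_lit 0x50, nat_lit 0x30, nat_lit 0x28, nat_lit 0x20, nat_lit 0x48, nat_lit 0x30, nat_lit 0x28, nat_lit 0x38, nat_lit 0x40, nat_lit 0x30, nat_lit 0x48, nat_lit 0x50, nat_lit 0x38, nat_lit 0x30, nat_lit 0x48, nat_lit 0x28, nat_lit 0x20, nat_lit 0x30, nat_lit 0x38, nat_lit 0x40]
def hsp1 : List ℕ := [nat_lit 0x28, nat_lit 2, nat_lit 4, nat_lit 4, nat_lit 4, nat_lit 4, nat_lit 4, nat_lit 4, nat_lit 4, nat_lit 4, nat_lit 4, nat_lit 4, nat_lit 4, nat_lit 4, nat_lit 4, nat_lit 4, nat_lit 4, nat_lit 4, nat_lit 4, nat_lit 4, nat_lit 4, nat_lit 4, nat_lit 4, nat_lit 4, nat_lit 4, nat_lit 4, nat_lit 4, nat_lit 0x30, nat_lit 0x38, nat_lit 0x48, nat_lit 0x50, nat_lit 0x30, nat_lit 0x28, nat_lit 0x20, nat_lit 0x48, nat_lit 0x30, nat_lit 0x28, nat_lit 0x38, nat_lit 0x40, nat_lit 0x30,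 nat_lit 0x48, nat_lit 0x50, nat_lit 0x38, nat_lit 0x30, nat_lit 0x48, nat_lit 0x28, nat_lit 0x20, nat_lit 0x30, nat_lit 0x38, nat_lit 0x40, nat_lit 0x28, nat_lit 0x30, nat_lit 0x38, nat_lit 0x40, nat_lit 2, nat_lit 4, nat_lit 4, nat_lit 4, nat_lit 4, nat_lit 4, nat_lit 4, nat_lit 4, nat_lit 4, nat_lit 4, nat_lit 4, nat_lit 4, nat_lit 4, nat_lit 4, nat_lit 4, nat_lit 4, nat_lit 4, nat_lit 4, nat_lit 4, nat_lit 4, nat_lit 4, nat_lit 4, nat_lit 4, nat_lit 4, nat_lit 4, nat_lit 4, nat_lit 4, nat_lit 4, nat_lit 4, nat_lit 4, nat_lit 4, nat_lit 0x30, nat_lit 0x28, nat_lit 0x30, nat_lit 0x38, nat_lit 0x48, nat_lit 0x50, nat_lit 0x30, nat_lit 0x28, nat_lit 0x20, nat_lit 0x48, nat_lit 0x30, nat_lit 0x28, nat_lit 0x38, nat_lit 0x40, nat_lit 0x30, nat_lit 0x48, nat_lit 0x50, nat_lit 0x38, nat_lit 0x30, nat_lit 0x48, nat_lit 0x28,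 nat_lit 0x20, nat_lit 0x30, nat_lit 0x38, nat_lit 0x40, nat_lit 0x28, nat_lit 0x30, nat_lit 0x38, nat_lit 2, nat_lit 4, nat_lit 4, nat_lit 4, nat_lit 4, nat_lit 4, nat_lit 4, nat_lit 4, nat_lit 4, nat_lit 4, nat_lit 4, nat_lit 4, nat_lit 4, nat_lit 4, nat_lit 4, nat_lit 4, nat_lit 4, nat_lit 4, nat_lit 4, nat_lit 4, nat_lit 4, nat_lit 4, nat_lit 4, nat_lit 4, nat_lit 4, nat_lit 4, nat_lit 4, nat_lit 4, nat_lit 4, nat_lit 0x28, nat_lit 0x30, nat_lit 0x38, nat_lit 0x48, nat_lit 0x50, nat_lit 0x30, nat_lit 0x28, nat_lit 0x20, nat_lit 0x48, nat_lit 0x30, nat_lit 0x28, nat_lit 0x38, nat_lit 0x40, nat_lit 0x30, nat_lit 0x48, nat_lit 0x50, nat_lit 0x38, nat_lit 0x30, nat_lit 0x48, nat_lit 0x28, nat_lit 0x20, nat_lit 0x30, nat_lit 0x38, nat_lit 0x40, nat_lit 0x28, nat_lit 0x30, nat_lit 0x38, nat_lit 0x48, nat_lit 0x50, nat_lit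 0x30, nat_lit 0x28, nat_lit 0x20, nat_lit 2, nat_lit 4, nat_lit 4, nat_lit 4, nat_lit 4, nat_lit 4, nat_lit 4, nat_lit 4, nat_lit 4, nat_lit 4, nat_lit 4, nat_lit 4, nat_lit 4, nat_lit 4, nat_lit 4, nat_lit 4, nat_lit 4, nat_lit 4, nat_lit 4, nat_lit 4, nat_lit 4, nat_lit 4, nat_lit 4, nat_lit 4, nat_lit 4, nat_lit 4, nat_lit 4, nat_lit 4, nat_lit 4, nat_lit 4, nat_lit 4, nat_lit 4, nat_lit 4, nat_lit 4, nat_lit 0x28, nat_lit 0x30, nat_lit 0x38, nat_lit 0x48, nat_lit 0x50, nat_lit 0x30, nat_lit 0x28, nat_lit 0x20, nat_lit 0x48, nat_lit 0x30, nat_lit 0x28, nat_lit 0x38, nat_lit 0x40, nat_lit 0x30, nat_lit 0x48, nat_lit 0x50, nat_lit 0x38, nat_lit 0x30, nat_lit 0x48, nat_lit 0x28, nat_lit 0x20, nat_lit 0x30, nat_lit 0x38, nat_lit 0x40, nat_lit 0x28, nat_lit 0x30, nat_lit 0x38, nat_lit 0x48, nat_lit 0x50, nat_lit 0x30, nat_lit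 0x28, nat_lit 0x20, nat_lit 2, nat_lit 4, nat_lit 4, nat_lit 4, nat_lit 4, nat_lit 4, nat_lit 4, nat_lit 4, nat_lit 4, nat_lit 4, nat_lit 4, nat_lit 4, nat_lit 4, nat_lit 4, nat_lit 4, nat_lit 4, nat_lit 4, nat_lit 4, nat_lit 4, nat_lit 4, nat_lit 4, nat_lit 4, nat_lit 4, nat_lit 4, nat_lit 4, nat_lit 4, nat_lit 4, nat_lit 4, nat_lit 4, nat_lit 4, nat_lit 4, nat_lit 4, nat_lit 4, nat_lit 4, nat_lit 0x28, nat_lit 0x30, nat_lit 0x38, nat_lit 0x48, nat_lit 0x50, nat_lit 0x30, nat_lit 0x28, nat_lit 0x20, nat_lit 0x48, nat_lit 0x30, nat_lit 0x28, nat_lit 0x38, nat_lit 0x40, nat_lit 0x30, nat_lit 0x48, nat_lit 0x50, nat_lit 0x38, nat_lit 0x30, nat_lit 0x48, nat_lit 0x28, nat_lit 0x20, nat_lit 0x30, nat_lit 0x38, nat_lit 0x40, nat_lit 0x28, nat_lit 0x30, nat_lit 0x38, nat_lit 0x48, nat_lit 0x50, nat_lit 0x30, nat_lit 0x28, nat_lit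 0x20, nat_lit 0x40, nat_lit 2, nat_lit 4, nat_lit 4, nat_lit 4, nat_lit 4, nat_lit 4, nat_lit 4, nat_lit 4, nat_lit 4, nat_lit 4, nat_lit 4, nat_lit 4, nat_lit 4, nat_lit 4, nat_lit 4, nat_lit 4, nat_lit 4, nat_lit 4, nat_lit 4, nat_lit 4, nat_lit 4, nat_lit 4, nat_lit 4, nat_lit 4, nat_lit 4, nat_lit 4, nat_lit 4, nat_lit 4, nat_lit 4, nat_lit 4, nat_lit 4, nat_lit 4, nat_lit 4, nat_lit 4, nat_lit 4, nat_lit 4, nat_lit 4, nat_lit 4, nat_lit 4, nat_lit 4, nat_lit 4, nat_lit 0x30, nat_lit 0x28, nat_lit 0x20, nat_lit 0x30, nat_lit 0x38, nat_lit 0x40, nat_lit 0x28, nat_lit 0x30, nat_lit 0x38, nat_lit 0x48, nat_lit 0x50, nat_lit 0x30, nat_lit 0x28, nat_lit 0x20, nat_lit 0x48, nat_lit 0x30, nat_lit 0x28, nat_lit 0x38, nat_lit 0x40, nat_lit 0x30, nat_lit 0x48, nat_lit 0x50, nat_lit 0x38, nat_lit 0x30, nat_lit 0x48, nat_lit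 0x28, nat_lit 0x20, nat_lit 0x30, nat_lit 0x38, nat_lit 0x40, nat_lit 0x28, nat_lit 0x30, nat_lit 0x38, nat_lit 0x48, nat_lit 0x50, nat_lit 0x30, nat_lit 0x28, nat_lit 0x20, nat_lit 2, nat_lit 4, nat_lit 4, nat_lit 4, nat_lit 4, nat_lit 4, nat_lit 4, nat_lit 4, nat_lit 4, nat_lit 4, nat_lit 4, nat_lit 4, nat_lit 4, nat_lit 4]
def hsp2 : List ℕ := [nat_lit 4, nat_lit 4, nat_lit 4, nat_lit 4, nat_lit 4, nat_lit 4, nat_lit 4, nat_lit 4, nat_lit 4, nat_lit 4, nat_lit 4, nat_lit 4, nat_lit 4, nat_lit 4, nat_lit 4, nat_lit 4, nat_lit 4, nat_lit 4, nat_lit 4, nat_lit 4, nat_lit 4, nat_lit 4, nat_lit 4, nat_lit 4, nat_lit 4, nat_lit 0x28, nat_lit 0x20, nat_lit 0x30, nat_lit 0x38, nat_lit 0x40, nat_lit 0x28, nat_lit 0x30, nat_lit 0x38, nat_lit 0x48, nat_lit 0x50, nat_lit 0x30, nat_lit 0x28, nat_lit 0x20, nat_lit 0x48, nat_lit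 0x30, nat_lit 0x28, nat_lit 0x38, nat_lit 0x40, nat_lit 0x30, nat_lit 0x48, nat_lit 0x50, nat_lit 0x38, nat_lit 0x30, nat_lit 0x48, nat_lit 0x28, nat_lit 0x20, nat_lit 0x30, nat_lit 0x38, nat_lit 0x40, nat_lit 0x28, nat_lit 0x30, nat_lit 0x38, nat_lit 0x48, nat_lit 0x50, nat_lit 0x30, nat_lit 0x28, nat_lit 0x20, nat_lit 0x48, nat_lit 2, nat_lit 4, nat_lit 4, nat_lit 4, nat_lit 4, nat_lit 4, nat_lit 4, nat_lit 4, nat_lit 4, nat_lit 4, nat_lit 4, nat_lit 4, nat_lit 4, nat_lit 4, nat_lit 4, nat_lit 4, nat_lit 4, nat_lit 4, nat_lit 4, nat_lit 4, nat_lit 4, nat_lit 4, nat_lit 4, nat_lit 4, nat_lit 4, nat_lit 4, nat_lit 4, nat_lit 4, nat_lit 4, nat_lit 4, nat_lit 4, nat_lit 4, nat_lit 4, nat_lit 4, nat_lit 4, nat_lit 4, nat_lit 4, nat_lit 4, nat_lit 4, nat_lit 4, nat_lit 4, nat_lit 4, nat_lit 0x30, nat_lit 0x48, nat_lit 0x28,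 nat_lit 0x20, nat_lit 0x30, nat_lit 0x38, nat_lit 0x40, nat_lit 0x28, nat_lit 0x30, nat_lit 0x38, nat_lit 0x48, nat_lit 0x50, nat_lit 0x30, nat_lit 0x28, nat_lit 0x20, nat_lit 0x48, nat_lit 0x30, nat_lit 0x28, nat_lit 0x38, nat_lit 0x40, nat_lit 0x30, nat_lit 0x48, nat_lit 0x50, nat_lit 0x38, nat_lit 0x30, nat_lit 0x48, nat_lit 0x28, nat_lit 0x20, nat_lit 0x30, nat_lit 0x38, nat_lit 0x40, nat_lit 0x28, nat_lit 0x30, nat_lit 0x38, nat_lit 0x48, nat_lit 0x50, nat_lit 0x30, nat_lit 0x28, nat_lit 0x20, nat_lit 0x48, nat_lit 0x30, nat_lit 0x28, nat_lit 0x20, nat_lit 2, nat_lit 4, nat_lit 4, nat_lit 4, nat_lit 4, nat_lit 4, nat_lit 4, nat_lit 4, nat_lit 4, nat_lit 4, nat_lit 4, nat_lit 4, nat_lit 4, nat_lit 4, nat_lit 4, nat_lit 4, nat_lit 4, nat_lit 4, nat_lit 4, nat_lit 4, nat_lit 4, nat_lit 4, nat_lit 4, nat_lit 4, nat_lit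 4, nat_lit 4, nat_lit 4, nat_lit 4, nat_lit 4, nat_lit 4, nat_lit 4, nat_lit 4, nat_lit 4, nat_lit 4, nat_lit 4, nat_lit 4, nat_lit 4, nat_lit 4, nat_lit 4, nat_lit 4, nat_lit 4, nat_lit 4, nat_lit 4, nat_lit 4, nat_lit 4, nat_lit 4, nat_lit 0x38, nat_lit 0x30, nat_lit 0x48, nat_lit 0x28, nat_lit 0x20, nat_lit 0x30, nat_lit 0x38, nat_lit 0x40, nat_lit 0x28, nat_lit 0x30, nat_lit 0x38, nat_lit 0x48, nat_lit 0x50, nat_lit 0x30, nat_lit 0x28, nat_lit 0x20, nat_lit 0x48, nat_lit 0x30, nat_lit 0x28, nat_lit 0x38, nat_lit 0x40, nat_lit 0x30, nat_lit 0x48, nat_lit 0x50, nat_lit 0x38, nat_lit 0x30, nat_lit 0x48, nat_lit 0x28, nat_lit 0x20, nat_lit 0x30, nat_lit 0x38, nat_lit 0x40, nat_lit 0x28, nat_lit 0x30, nat_lit 0x38, nat_lit 0x48, nat_lit 0x50, nat_lit 0x30, nat_lit 0x28, nat_lit 0x20, nat_lit 0x48, nat_lit 0x30, nat_lit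 0x28, nat_lit 2, nat_lit 4, nat_lit 4, nat_lit 4, nat_lit 4, nat_lit 4, nat_lit 4, nat_lit 4, nat_lit 4, nat_lit 4, nat_lit 4, nat_lit 4, nat_lit 4, nat_lit 4, nat_lit 4, nat_lit 4, nat_lit 4, nat_lit 4, nat_lit 4, nat_lit 4, nat_lit 4, nat_lit 4, nat_lit 4, nat_lit 4, nat_lit 4, nat_lit 4, nat_lit 4, nat_lit 4, nat_lit 4, nat_lit 4, nat_lit 4, nat_lit 4, nat_lit 4, nat_lit 4, nat_lit 4, nat_lit 4, nat_lit 0x30, nat_lit 5, nat_lit 5, nat_lit 5, nat_lit 5, nat_lit 5, nat_lit 5, nat_lit 5, nat_lit 0x30, nat_lit 4, nat_lit 4, nat_lit 4, nat_lit 4, nat_lit 4, nat_lit 4, nat_lit 4, nat_lit 4, nat_lit 4, nat_lit 0x328, nat_lit 0x38, nat_lit 0x48, nat_lit 0x50, nat_lit 0x30, nat_lit 0x28, nat_lit 0x20, nat_lit 2, nat_lit 5, nat_lit 5, nat_lit 5, nat_lit 5, nat_lit 5, nat_lit 5, nat_lit 5, nat_lit 5, nat_lit 5, nat_lit 5, nat_lit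 5, nat_lit 5, nat_lit 5, nat_lit 5, nat_lit 5, nat_lit 5, nat_lit 0x31, nat_lit 4, nat_lit 0x29, nat_lit 4, nat_lit 4, nat_lit 4, nat_lit 4, nat_lit 4, nat_lit 4, nat_lit 4, nat_lit 4, nat_lit 4, nat_lit 4, nat_lit 4, nat_lit 4, nat_lit 4, nat_lit 4, nat_lit 4, nat_lit 4, nat_lit 4, nat_lit 0x20, nat_lit 4, nat_lit 0x2a0, nat_lit 0x4b0, nat_lit 0x28, nat_lit 0x38, nat_lit 0x40, nat_lit 0x30, nat_lit 0x48, nat_lit 0x50, nat_lit 0x38, nat_lit 0x30, nat_lit 0x48, nat_lit 0x28, nat_lit 0x20, nat_lit 0x30, nat_lit 0x38, nat_lit 0x40, nat_lit 0x3b28, nat_lit 2, nat_lit 5, nat_lit 0x50, nat_lit 4, nat_lit 4, nat_lit 4, nat_lit 4, nat_lit 4, nat_lit 4, nat_lit 4, nat_lit 4, nat_lit 0x29, nat_lit 5, nat_lit 5, nat_lit 5, nat_lit 5, nat_lit 5, nat_lit 5, nat_lit 5, nat_lit 5, nat_lit 5, nat_lit 5, nat_lit 5, nat_lit 5, nat_lit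 5, nat_lit 5, nat_lit 0x38, nat_lit 4, nat_lit 4, nat_lit 4, nat_lit 4, nat_lit 4, nat_lit 4, nat_lit 4, nat_lit 4, nat_lit 4, nat_lit 4, nat_lit 4, nat_lit 0x41, nat_lit 4, nat_lit 4, nat_lit 4, nat_lit 0x30, nat_lit 0x38, nat_lit 0x43b28, nat_lit 2]
def hsp3 : List ℕ := [nat_lit 4, nat_lit 4, nat_lit 4, nat_lit 4, nat_lit 4, nat_lit 4, nat_lit 4, nat_lit 4, nat_lit 4, nat_lit 4, nat_lit 4, nat_lit 4, nat_lit 4, nat_lit 4, nat_lit 0x28, nat_lit 5, nat_lit 5, nat_lit 5, nat_lit 5, nat_lit 5, nat_lit 0x38, nat_lit 4, nat_lit 4, nat_lit 4, nat_lit 4, nat_lit 4, nat_lit 4, nat_lit 4, nat_lit 4, nat_lit 4, nat_lit 4, nat_lit 4, nat_lit 4, nat_lit 4, nat_lit 4, nat_lit 4, nat_lit 4, nat_lit 4, nat_lit 4, nat_lit 4, nat_lit 4, nat_lit 0x48, nat_lit 4, nat_lit 0x4b0, nat_lit 0x28, nat_lit 0x20, nat_lit 0x30, nat_lit 0x38, nat_lit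 0x40, nat_lit 0x328, nat_lit 0x38, nat_lit 0x48, nat_lit 0x50, nat_lit 0x30, nat_lit 0x2a0, nat_lit 0x28, nat_lit 0x4b28, nat_lit 0x38, nat_lit 0x40, nat_lit 0x30, nat_lit 0x48, nat_lit 0x38, nat_lit 0x50, nat_lit 0x30, nat_lit 0x48, nat_lit 0x2a0, nat_lit 0x30, nat_lit 0x38, nat_lit 0x43b28, nat_lit 2, nat_lit 5, nat_lit 5, nat_lit 5, nat_lit 5, nat_lit 5, nat_lit 5, nat_lit 5, nat_lit 0x28, nat_lit 4, nat_lit 4, nat_lit 4, nat_lit 4, nat_lit 4, nat_lit 4, nat_lit 4, nat_lit 4, nat_lit 4, nat_lit 4, nat_lit 4, nat_lit 0x38, nat_lit 5, nat_lit 5, nat_lit 0x548, nat_lit 5, nat_lit 5, nat_lit 5, nat_lit 5, nat_lit 5, nat_lit 0x28, nat_lit 4, nat_lit 4, nat_lit 4, nat_lit 4, nat_lit 4, nat_lit 4, nat_lit 0x49, nat_lit 5, nat_lit 0x28, nat_lit 0x20, nat_lit 2, nat_lit 5, nat_lit 5, nat_lit 5, nat_lit 5, nat_lit 0x48, nat_lit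 4, nat_lit 4, nat_lit 4, nat_lit 4, nat_lit 4, nat_lit 4, nat_lit 4, nat_lit 4, nat_lit 4, nat_lit 4, nat_lit 4, nat_lit 4, nat_lit 4, nat_lit 4, nat_lit 4, nat_lit 4, nat_lit 4, nat_lit 4, nat_lit 4, nat_lit 4, nat_lit 4, nat_lit 4, nat_lit 4, nat_lit 0x4b28, nat_lit 0x38, nat_lit 0x40, nat_lit 0x30, nat_lit 0x48, nat_lit 0x38, nat_lit 0x50, nat_lit 0x30, nat_lit 0x48, nat_lit 0x2a0, nat_lit 0x38, nat_lit 0x3b0, nat_lit 0x43b28, nat_lit 0x548, nat_lit 0x4b0, nat_lit 0x28, nat_lit 0x20, nat_lit 0x28, nat_lit 0x328, nat_lit 0x38, nat_lit 0x40, nat_lit 2, nat_lit 4, nat_lit 4, nat_lit 4, nat_lit 4, nat_lit 4, nat_lit 4, nat_lit 4, nat_lit 4, nat_lit 4, nat_lit 4, nat_lit 4, nat_lit 4, nat_lit 0x38, nat_lit 4, nat_lit 4, nat_lit 4, nat_lit 4, nat_lit 4, nat_lit 4, nat_lit 4, nat_lit 4, nat_lit 4, nat_lit 0x39, nat_lit 5,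 nat_lit 5, nat_lit 5, nat_lit 5, nat_lit 0x50, nat_lit 5, nat_lit 5, nat_lit 5, nat_lit 5, nat_lit 5, nat_lit 5, nat_lit 5, nat_lit 0x4b0, nat_lit 4, nat_lit 4, nat_lit 4, nat_lit 4, nat_lit 4, nat_lit 4, nat_lit 4, nat_lit 4, nat_lit 4, nat_lit 4, nat_lit 4, nat_lit 4, nat_lit 4, nat_lit 4, nat_lit 4, nat_lit 4, nat_lit 0x31, nat_lit 4, nat_lit 4, nat_lit 4, nat_lit 4, nat_lit 0x329, nat_lit 5, nat_lit 5, nat_lit 5, nat_lit 5, nat_lit 5, nat_lit 5, nat_lit 5, nat_lit 5, nat_lit 5, nat_lit 5, nat_lit 5, nat_lit 5, nat_lit 5, nat_lit 5, nat_lit 5, nat_lit 5, nat_lit 5, nat_lit 5, nat_lit 5, nat_lit 5, nat_lit 5, nat_lit 5, nat_lit 5, nat_lit 5, nat_lit 5, nat_lit 0x39, nat_lit 0x38, nat_lit 4, nat_lit 4, nat_lit 4, nat_lit 4, nat_lit 4, nat_lit 4, nat_lit 4, nat_lit 4, nat_lit 4, nat_lit 4, nat_lit 4, nat_lit 4, nat_lit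 4, nat_lit 4, nat_lit 0x39, nat_lit 5, nat_lit 0x48, nat_lit 2, nat_lit 5, nat_lit 5, nat_lit 5, nat_lit 5, nat_lit 5, nat_lit 5, nat_lit 5, nat_lit 5, nat_lit 5, nat_lit 5, nat_lit 0x41, nat_lit 4, nat_lit 4, nat_lit 4, nat_lit 4, nat_lit 4, nat_lit 4, nat_lit 4, nat_lit 4, nat_lit 4, nat_lit 4, nat_lit 4, nat_lit 4, nat_lit 4, nat_lit 4, nat_lit 4, nat_lit 4, nat_lit 4, nat_lit 4, nat_lit 4, nat_lit 4, nat_lit 4, nat_lit 4, nat_lit 4, nat_lit 4, nat_lit 4, nat_lit 4, nat_lit 4, nat_lit 4, nat_lit 4, nat_lit 0x29, nat_lit 5, nat_lit 0x30, nat_lit 0x38, nat_lit 0x40, nat_lit 0x3b28, nat_lit 0x328, nat_lit 0x48, nat_lit 0x50, nat_lit 0x32a0, nat_lit 0x30, nat_lit 0x4b28, nat_lit 0x438, nat_lit 2, nat_lit 4, nat_lit 4, nat_lit 4, nat_lit 4, nat_lit 4, nat_lit 4, nat_lit 4, nat_lit 0x329, nat_lit 5, nat_lit 5, nat_lit 5,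 nat_lit 5, nat_lit 5, nat_lit 5, nat_lit 0x30, nat_lit 4, nat_lit 4, nat_lit 4, nat_lit 0x4b28, nat_lit 2, nat_lit 4, nat_lit 0x4b29, nat_lit 4, nat_lit 4, nat_lit 4, nat_lit 4, nat_lit 4, nat_lit 4, nat_lit 4, nat_lit 4, nat_lit 4, nat_lit 0x2a1, nat_lit 5, nat_lit 5, nat_lit 5, nat_lit 5, nat_lit 5, nat_lit 5, nat_lit 5, nat_lit 5, nat_lit 5, nat_lit 5, nat_lit 5, nat_lit 5, nat_lit 5, nat_lit 5, nat_lit 5, nat_lit 5, nat_lit 5, nat_lit 5, nat_lit 5, nat_lit 0x28, nat_lit 5, nat_lit 5, nat_lit 0x328, nat_lit 4, nat_lit 4, nat_lit 4, nat_lit 4, nat_lit 4, nat_lit 4, nat_lit 4, nat_lit 4, nat_lit 4, nat_lit 0x49, nat_lit 4, nat_lit 4, nat_lit 4, nat_lit 4, nat_lit 4, nat_lit 0x34c3b29, nat_lit 5, nat_lit 5, nat_lit 5, nat_lit 5, nat_lit 5, nat_lit 5, nat_lit 5, nat_lit 5, nat_lit 5, nat_lit 5, nat_lit 5, nat_lit 5]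
def hsp4 : List ℕ := [nat_lit 0x328, nat_lit 4, nat_lit 4, nat_lit 4, nat_lit 4, nat_lit 4, nat_lit 4, nat_lit 4, nat_lit 4, nat_lit 4, nat_lit 0x2a0, nat_lit 4, nat_lit 4, nat_lit 4, nat_lit 4, nat_lit 4, nat_lit 4, nat_lit 4, nat_lit 0x51, nat_lit 5, nat_lit 5, nat_lit 5, nat_lit 5, nat_lit 5, nat_lit 5, nat_lit 5, nat_lit 5, nat_lit 5, nat_lit 5, nat_lit 5, nat_lit 0x28, nat_lit 4, nat_lit 4, nat_lit 4, nat_lit 4, nat_lit 4, nat_lit 4, nat_lit 4, nat_lit 4, nat_lit 4, nat_lit 4, nat_lit 4, nat_lit 4, nat_lit 4, nat_lit 4, nat_lit 4, nat_lit 4, nat_lit 0x3b28, nat_lit 4, nat_lit 0x43b28, nat_lit 0x4b28, nat_lit 0x328, nat_lit 0x32a0, nat_lit 0x50, nat_lit 0x43b0, nat_lit 0x34c3b28, nat_lit 0x48, nat_lit 0x50, nat_lit 0x2a0, nat_lit 0x3b2a0, nat_lit 0x48, nat_lit 0x3b0, nat_lit 0x43b28, nat_lit 0x28, nat_lit 0x4b28,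 nat_lit 0x548, nat_lit 2, nat_lit 4, nat_lit 4, nat_lit 4, nat_lit 4, nat_lit 4, nat_lit 4, nat_lit 4, nat_lit 4, nat_lit 4, nat_lit 4, nat_lit 4, nat_lit 4, nat_lit 4, nat_lit 4, nat_lit 4, nat_lit 4, nat_lit 4, nat_lit 4, nat_lit 4, nat_lit 4, nat_lit 4, nat_lit 4, nat_lit 0x4b0, nat_lit 5, nat_lit 5, nat_lit 5, nat_lit 5, nat_lit 5, nat_lit 5, nat_lit 5, nat_lit 5, nat_lit 5, nat_lit 5, nat_lit 5, nat_lit 5, nat_lit 5, nat_lit 5, nat_lit 5, nat_lit 5, nat_lit 0x43b28, nat_lit 4, nat_lit 4, nat_lit 4, nat_lit 4, nat_lit 4, nat_lit 4, nat_lit 0x49, nat_lit 5, nat_lit 5, nat_lit 5, nat_lit 5, nat_lit 5, nat_lit 5, nat_lit 0x3b1, nat_lit 4, nat_lit 4, nat_lit 4, nat_lit 4, nat_lit 0x2a1, nat_lit 5, nat_lit 5, nat_lit 5, nat_lit 5, nat_lit 5, nat_lit 5, nat_lit 5, nat_lit 0x32a0, nat_lit 4, nat_lit 4, nat_lit 4, nat_lit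 4, nat_lit 4, nat_lit 4, nat_lit 4, nat_lit 4, nat_lit 4, nat_lit 4, nat_lit 0x48, nat_lit 5, nat_lit 5, nat_lit 5, nat_lit 0x43b28, nat_lit 4, nat_lit 4, nat_lit 4, nat_lit 4, nat_lit 0x3b0, nat_lit 5, nat_lit 0x2a1, nat_lit 5, nat_lit 5, nat_lit 5, nat_lit 0x3b0, nat_lit 4, nat_lit 4, nat_lit 4, nat_lit 0x2a1, nat_lit 4, nat_lit 0x43b29, nat_lit 4, nat_lit 4, nat_lit 0x3b1, nat_lit 4, nat_lit 4, nat_lit 4, nat_lit 4, nat_lit 4, nat_lit 4, nat_lit 4, nat_lit 4, nat_lit 4, nat_lit 4, nat_lit 4, nat_lit 4, nat_lit 4, nat_lit 0x4b1, nat_lit 5, nat_lit 5, nat_lit 5, nat_lit 5, nat_lit 5, nat_lit 5, nat_lit 5, nat_lit 5, nat_lit 5, nat_lit 5, nat_lit 5, nat_lit 5, nat_lit 5, nat_lit 5, nat_lit 0x48, nat_lit 5, nat_lit 5, nat_lit 5, nat_lit 5, nat_lit 5, nat_lit 5, nat_lit 5, nat_lit 5, nat_lit 5, nat_lit 5, nat_lit 0x40,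 nat_lit 4, nat_lit 4, nat_lit 4, nat_lit 4, nat_lit 4, nat_lit 4, nat_lit 0x32a0, nat_lit 4, nat_lit 4, nat_lit 4, nat_lit 4, nat_lit 0x3b0, nat_lit 4, nat_lit 4, nat_lit 4, nat_lit 4, nat_lit 0x4bb0, nat_lit 0x43b28, nat_lit 2, nat_lit 4, nat_lit 4, nat_lit 4, nat_lit 4, nat_lit 4, nat_lit 4, nat_lit 4, nat_lit 4, nat_lit 4, nat_lit 4, nat_lit 4, nat_lit 4, nat_lit 4, nat_lit 4, nat_lit 0x32a1, nat_lit 4, nat_lit 0x30, nat_lit 0x32a0, nat_lit 5, nat_lit 5, nat_lit 5, nat_lit 5, nat_lit 5, nat_lit 5, nat_lit 5, nat_lit 5, nat_lit 5, nat_lit 5, nat_lit 5, nat_lit 0x43b28, nat_lit 5, nat_lit 5, nat_lit 5, nat_lit 5, nat_lit 5, nat_lit 5, nat_lit 5, nat_lit 5, nat_lit 5, nat_lit 0x4b1, nat_lit 4, nat_lit 4, nat_lit 4, nat_lit 4, nat_lit 4, nat_lit 4, nat_lit 4, nat_lit 4, nat_lit 4, nat_lit 4, nat_lit 4, nat_lit 4, nat_lit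 4, nat_lit 4, nat_lit 4, nat_lit 4, nat_lit 4, nat_lit 0x329, nat_lit 5, nat_lit 0x50, nat_lit 0x43b0, nat_lit 0x34c3b28, nat_lit 0x48, nat_lit 0x50, nat_lit 0x43b28, nat_lit 0x3b4c3b28, nat_lit 0x3b2a0, nat_lit 2, nat_lit 4, nat_lit 4, nat_lit 4, nat_lit 4, nat_lit 4, nat_lit 4, nat_lit 4, nat_lit 4, nat_lit 4, nat_lit 4, nat_lit 4, nat_lit 4, nat_lit 4, nat_lit 4, nat_lit 0x4b2a0, nat_lit 0x38, nat_lit 0x43b28, nat_lit 0x4b28, nat_lit 0x20, nat_lit 0x50, nat_lit 0x43b0, nat_lit 0x34c3b28, nat_lit 0x48, nat_lit 0x50, nat_lit 2, nat_lit 4, nat_lit 4, nat_lit 4, nat_lit 4, nat_lit 0x34c3b28, nat_lit 0x48, nat_lit 0x50, nat_lit 0x3b4c3b28, nat_lit 0x3b2a0, nat_lit 0x32a0, nat_lit 0x4b28, nat_lit 0x54b2a0, nat_lit 0x30, nat_lit 0x38, nat_lit 0x40, nat_lit 0x54b0, nat_lit 2, nat_lit 4, nat_lit 4, nat_lit 4, nat_lit 4, nat_lit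 4, nat_lit 4, nat_lit 4, nat_lit 4, nat_lit 4, nat_lit 4, nat_lit 4, nat_lit 4, nat_lit 4, nat_lit 4, nat_lit 4, nat_lit 4, nat_lit 4, nat_lit 0x43b28, nat_lit 5, nat_lit 5, nat_lit 5, nat_lit 5, nat_lit 5, nat_lit 5, nat_lit 5, nat_lit 0x3b4c3b29, nat_lit 4, nat_lit 4, nat_lit 4, nat_lit 4, nat_lit 4, nat_lit 4, nat_lit 4, nat_lit 4, nat_lit 4, nat_lit 0x43b28, nat_lit 5, nat_lit 5, nat_lit 0x4b29, nat_lit 5, nat_lit 5, nat_lit 5, nat_lit 5, nat_lit 5, nat_lit 5, nat_lit 5, nat_lit 5, nat_lit 5, nat_lit 5, nat_lit 5, nat_lit 0x38, nat_lit 4, nat_lit 4, nat_lit 4, nat_lit 4, nat_lit 4, nat_lit 4, nat_lit 4, nat_lit 4, nat_lit 4, nat_lit 0x34c3b29, nat_lit 5]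
def hsp5 : List ℕ := [nat_lit 5, nat_lit 5, nat_lit 5, nat_lit 5, nat_lit 5, nat_lit 0x4b29, nat_lit 5, nat_lit 0x4b29, nat_lit 4, nat_lit 4, nat_lit 4, nat_lit 4, nat_lit 4, nat_lit 4, nat_lit 4, nat_lit 4, nat_lit 4, nat_lit 4, nat_lit 4, nat_lit 4, nat_lit 0x38, nat_lit 5, nat_lit 5, nat_lit 5, nat_lit 5, nat_lit 5, nat_lit 0x34c3b29, nat_lit 5, nat_lit 0x3b2a0, nat_lit 0x3b4c3b28, nat_lit 2, nat_lit 4, nat_lit 4, nat_lit 0x3b2a1, nat_lit 4, nat_lit 4, nat_lit 4, nat_lit 4, nat_lit 0x4b29, nat_lit 4, nat_lit 4, nat_lit 4, nat_lit 0x39, nat_lit 5, nat_lit 5, nat_lit 5, nat_lit 5, nat_lit 5, nat_lit 5, nat_lit 5, nat_lit 5, nat_lit 5, nat_lit 5, nat_lit 5, nat_lit 5, nat_lit 5, nat_lit 0x54b0, nat_lit 4, nat_lit 4, nat_lit 4, nat_lit 4, nat_lit 0x4b28, nat_lit 4, nat_lit 4, nat_lit 4, nat_lit 4, nat_lit 4, nat_lit 4,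 nat_lit 4, nat_lit 0x48, nat_lit 5, nat_lit 5, nat_lit 5, nat_lit 5, nat_lit 0x4b28, nat_lit 4, nat_lit 4, nat_lit 4, nat_lit 4, nat_lit 4, nat_lit 4, nat_lit 4, nat_lit 4, nat_lit 4, nat_lit 4, nat_lit 4, nat_lit 4, nat_lit 0x43b28, nat_lit 5, nat_lit 5, nat_lit 5, nat_lit 5, nat_lit 5, nat_lit 5, nat_lit 5, nat_lit 5, nat_lit 5, nat_lit 5, nat_lit 5, nat_lit 5, nat_lit 0x39, nat_lit 4, nat_lit 4, nat_lit 4, nat_lit 4, nat_lit 4, nat_lit 4, nat_lit 4, nat_lit 0x49, nat_lit 0x48, nat_lit 5, nat_lit 5, nat_lit 5, nat_lit 5, nat_lit 0x4b29, nat_lit 5, nat_lit 0x30, nat_lit 4, nat_lit 4, nat_lit 4, nat_lit 4, nat_lit 4, nat_lit 0x3b4c3b28, nat_lit 4, nat_lit 4, nat_lit 4, nat_lit 4, nat_lit 0x48, nat_lit 5, nat_lit 5, nat_lit 0x534c3b28, nat_lit 4, nat_lit 4, nat_lit 4, nat_lit 4, nat_lit 4, nat_lit 4, nat_lit 4, nat_lit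 4, nat_lit 0x31, nat_lit 5, nat_lit 5, nat_lit 5, nat_lit 5, nat_lit 5, nat_lit 5, nat_lit 5, nat_lit 0x3b4c3b28, nat_lit 5, nat_lit 5, nat_lit 5, nat_lit 0x31, nat_lit 4, nat_lit 4, nat_lit 4, nat_lit 4, nat_lit 4, nat_lit 4, nat_lit 4, nat_lit 4, nat_lit 4, nat_lit 0x4b2a0, nat_lit 4, nat_lit 4, nat_lit 4, nat_lit 4, nat_lit 0x2b4c3b2a0, nat_lit 0x30, nat_lit 2, nat_lit 5, nat_lit 5, nat_lit 5, nat_lit 5, nat_lit 5, nat_lit 0x3b2a0, nat_lit 0x54b2a0, nat_lit 5, nat_lit 5, nat_lit 5, nat_lit 5, nat_lit 0x54b1, nat_lit 4, nat_lit 4, nat_lit 4, nat_lit 4, nat_lit 4, nat_lit 4, nat_lit 4, nat_lit 4, nat_lit 4, nat_lit 4, nat_lit 4, nat_lit 4, nat_lit 0x4bb2a0, nat_lit 5, nat_lit 5, nat_lit 5, nat_lit 0x3b4c3b28, nat_lit 4, nat_lit 4, nat_lit 0x3b4c3b28, nat_lit 4, nat_lit 4, nat_lit 4, nat_lit 0x34bb2a1, nat_lit 5, nat_lit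 5, nat_lit 5, nat_lit 5, nat_lit 5, nat_lit 5, nat_lit 0x533ab4c3b2a0, nat_lit 4, nat_lit 4, nat_lit 4, nat_lit 0x3b2a0, nat_lit 5, nat_lit 5, nat_lit 0x54b2a1, nat_lit 4, nat_lit 4, nat_lit 4, nat_lit 4, nat_lit 4, nat_lit 4, nat_lit 0x34bb2a1, nat_lit 4, nat_lit 4, nat_lit 4, nat_lit 4, nat_lit 0x39, nat_lit 5, nat_lit 5, nat_lit 5, nat_lit 5, nat_lit 5, nat_lit 5, nat_lit 5, nat_lit 5, nat_lit 5, nat_lit 0x533ab4c3b2a1, nat_lit 5, nat_lit 5, nat_lit 5, nat_lit 5, nat_lit 5, nat_lit 0x41, nat_lit 4, nat_lit 4, nat_lit 4, nat_lit 4, nat_lit 4, nat_lit 4, nat_lit 4, nat_lit 4, nat_lit 4, nat_lit 4, nat_lit 4, nat_lit 4, nat_lit 4, nat_lit 4, nat_lit 0x38, nat_lit 5, nat_lit 5, nat_lit 0x49, nat_lit 5, nat_lit 5, nat_lit 5, nat_lit 5, nat_lit 5, nat_lit 5, nat_lit 5, nat_lit 5, nat_lit 5, nat_lit 0x38, nat_lit 4, nat_lit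 4, nat_lit 4, nat_lit 4, nat_lit 4, nat_lit 4, nat_lit 4, nat_lit 4, nat_lit 0x34bb2a1, nat_lit 4, nat_lit 4, nat_lit 0x3b4c3b29, nat_lit 5, nat_lit 5, nat_lit 5, nat_lit 5, nat_lit 5, nat_lit 5, nat_lit 5, nat_lit 0x54b2a0, nat_lit 5, nat_lit 5, nat_lit 0x3b1, nat_lit 5, nat_lit 0x3b1, nat_lit 0x43b1, nat_lit 4, nat_lit 4, nat_lit 0x54b0, nat_lit 4, nat_lit 4, nat_lit 4, nat_lit 4, nat_lit 4, nat_lit 4, nat_lit 4, nat_lit 4, nat_lit 4, nat_lit 4, nat_lit 4, nat_lit 4, nat_lit 0x4bb2a0, nat_lit 4, nat_lit 0x2b4c3b2a0, nat_lit 0x48, nat_lit 5, nat_lit 5, nat_lit 5, nat_lit 5, nat_lit 5, nat_lit 5, nat_lit 5, nat_lit 5, nat_lit 5, nat_lit 5, nat_lit 5, nat_lit 0x43b0, nat_lit 4, nat_lit 4, nat_lit 4, nat_lit 4, nat_lit 4, nat_lit 4, nat_lit 4, nat_lit 4, nat_lit 4, nat_lit 4, nat_lit 4, nat_lit 0x3b4c3b29, nat_lit 5, nat_lit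 5, nat_lit 5, nat_lit 5, nat_lit 5, nat_lit 0x2b4d3ab4c3b2a1, nat_lit 4, nat_lit 4, nat_lit 4, nat_lit 4, nat_lit 0x3b4c3b29, nat_lit 0x3b4c3b28, nat_lit 4, nat_lit 4, nat_lit 0x3b4c3b28, nat_lit 5, nat_lit 5, nat_lit 5, nat_lit 5, nat_lit 5, nat_lit 5, nat_lit 5, nat_lit 5, nat_lit 0x54bb1, nat_lit 4, nat_lit 4, nat_lit 4, nat_lit 4, nat_lit 4, nat_lit 4, nat_lit 4, nat_lit 4, nat_lit 4, nat_lit 4, nat_lit 4, nat_lit 0x3b2a0, nat_lit 5, nat_lit 5, nat_lit 0x34bb2a0, nat_lit 4, nat_lit 0x2b4d3b4c3b28, nat_lit 0x3b2a0, nat_lit 0x328, nat_lit 0x54b2a0, nat_lit 0x2b4d3ab4c3b2a0, nat_lit 0x533ab4c3b2a0, nat_lit 0x54b0, nat_lit 0x43b0, nat_lit 0x54bb0, nat_lit 2, nat_lit 4, nat_lit 4, nat_lit 4, nat_lit 4, nat_lit 4, nat_lit 4]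
def hsp6 : List ℕ := [nat_lit 4, nat_lit 4, nat_lit 4, nat_lit 4, nat_lit 4, nat_lit 4, nat_lit 4, nat_lit 4, nat_lit 0x2b4c3b2a0, nat_lit 0x3b2a0, nat_lit 0x4bb2a0, nat_lit 0x3b4c3b28, nat_lit 0x2b4d3b4c3b28, nat_lit 0x3b2a0, nat_lit 0x328, nat_lit 0x54b2a0, nat_lit 0x2b4d3ab4c3b2a0, nat_lit 0x533ab4c3b2a0, nat_lit 2, nat_lit 4, nat_lit 4, nat_lit 4, nat_lit 4, nat_lit 0x54b2a0, nat_lit 4, nat_lit 0x328, nat_lit 4, nat_lit 4, nat_lit 4, nat_lit 4, nat_lit 4, nat_lit 0x4bb2a1, nat_lit 4, nat_lit 0x3b2a1, nat_lit 0x3b2a0, nat_lit 5, nat_lit 5, nat_lit 5, nat_lit 5, nat_lit 5, nat_lit 5, nat_lit 5, nat_lit 0x43b0, nat_lit 4, nat_lit 4, nat_lit 4, nat_lit 4, nat_lit 4, nat_lit 4, nat_lit 0x2b4d3b4c3b29, nat_lit 0x2b4d3b4c3b28, nat_lit 5, nat_lit 5, nat_lit 0x54b2a1, nat_lit 4, nat_lit 4, nat_lit 4, nat_lit 4, nat_lit 4,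 nat_lit 4, nat_lit 0x3b4c3b28, nat_lit 5, nat_lit 5, nat_lit 0x3b2a0, nat_lit 5, nat_lit 5, nat_lit 5, nat_lit 5, nat_lit 0x52b4bb2a0, nat_lit 4, nat_lit 4, nat_lit 4, nat_lit 4, nat_lit 4, nat_lit 4, nat_lit 4, nat_lit 4, nat_lit 4, nat_lit 0x3b4c3b29, nat_lit 0x3b4c3b28, nat_lit 5, nat_lit 0x3b2a0, nat_lit 4, nat_lit 4, nat_lit 2, nat_lit 5, nat_lit 5, nat_lit 5, nat_lit 5, nat_lit 0x52b4bb2a0, nat_lit 4, nat_lit 4, nat_lit 4, nat_lit 4, nat_lit 4, nat_lit 4, nat_lit 0x3b4c3b29, nat_lit 5, nat_lit 0x3ab4d3ab4c3b2a0, nat_lit 4, nat_lit 0x52b4bb2a0, nat_lit 5, nat_lit 5, nat_lit 5, nat_lit 0x52b4bb2a1, nat_lit 5, nat_lit 5, nat_lit 0x533ab4c3b2a1, nat_lit 0x54bb1, nat_lit 4, nat_lit 0x52b4bb2a1, nat_lit 4, nat_lit 4, nat_lit 4, nat_lit 4, nat_lit 4, nat_lit 4, nat_lit 0x52b4bb2a0, nat_lit 4, nat_lit 0x4d2b4bb2a0, nat_lit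 0x3b4c3b28, nat_lit 0x328, nat_lit 0x2b4d3ab4c3b2a0, nat_lit 0x54b2a0, nat_lit 0x43b0, nat_lit 2, nat_lit 4, nat_lit 4, nat_lit 0x54b2a1, nat_lit 4, nat_lit 4, nat_lit 4, nat_lit 4, nat_lit 4, nat_lit 0x4d2b4bb2a0, nat_lit 4, nat_lit 0x4d2b4bb2a1, nat_lit 5, nat_lit 5, nat_lit 5, nat_lit 5, nat_lit 5, nat_lit 0x534c3b2a1, nat_lit 4, nat_lit 4, nat_lit 0x329, nat_lit 4, nat_lit 0x3b4c3b29, nat_lit 4, nat_lit 4, nat_lit 0x4d2b4bb2a0, nat_lit 5, nat_lit 0x4d3b4c3b2a1, nat_lit 4, nat_lit 4, nat_lit 0x4d2b4bb2a1, nat_lit 5, nat_lit 0x4d2b4bb2a1, nat_lit 5, nat_lit 5, nat_lit 5, nat_lit 5, nat_lit 0x43b1, nat_lit 4, nat_lit 4, nat_lit 4, nat_lit 0x4d3b4c3b2a0, nat_lit 5, nat_lit 0x54b2a0, nat_lit 4, nat_lit 4, nat_lit 4, nat_lit 0x4d2b4bb2a0, nat_lit 4, nat_lit 4, nat_lit 0x3ab4d33ab4c3b2a1, nat_lit 4, nat_lit 0x2b4c3b2a1,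 nat_lit 0x3b4c3b29, nat_lit 0x2b4c3b2a1, nat_lit 5, nat_lit 0x2b4c3b2a1, nat_lit 5, nat_lit 0x4d3b4c3b2a0, nat_lit 4, nat_lit 0x33ab4d4b3ab4c3b2a0, nat_lit 4, nat_lit 0x33ab4d4b3ab4c3b2a1, nat_lit 4, nat_lit 0x3ab4d33ab4c3b2a1, nat_lit 4, nat_lit 0x4d3b4c3b2a0, nat_lit 0x3ab4d33ab4c3b2a0, nat_lit 4, nat_lit 4, nat_lit 0x3ab4d33ab4c3b2a0, nat_lit 5, nat_lit 5, nat_lit 0x54b2a0, nat_lit 4, nat_lit 4, nat_lit 0x54b2a0, nat_lit 5, nat_lit 5, nat_lit 0x43b0, nat_lit 4, nat_lit 4, nat_lit 4, nat_lit 4, nat_lit 4, nat_lit 4, nat_lit 0x4d3b4c3b2a0, nat_lit 5, nat_lit 0x54b2a1, nat_lit 5, nat_lit 0x54b2a1, nat_lit 5, nat_lit 5, nat_lit 5, nat_lit 0x54bb0, nat_lit 4, nat_lit 4, nat_lit 4, nat_lit 4, nat_lit 4, nat_lit 4, nat_lit 4, nat_lit 0x4d3b4c3b2a1, nat_lit 0x4d3b4c3b2a0, nat_lit 0x4d2b4bb2a0, nat_lit 4, nat_lit 0x4d2b4bb2a1,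 nat_lit 5, nat_lit 0x33ab4d4b3ab4c3b2a0, nat_lit 5, nat_lit 5, nat_lit 0x43b1, nat_lit 4, nat_lit 4, nat_lit 4, nat_lit 4, nat_lit 0x33ab4d4b3ab4c3b2a0, nat_lit 4, nat_lit 0x3ab4d33ab4c3b2a0, nat_lit 5, nat_lit 5, nat_lit 5, nat_lit 5, nat_lit 0x43b1, nat_lit 0x43b0, nat_lit 4, nat_lit 4, nat_lit 4, nat_lit 4, nat_lit 4, nat_lit 4, nat_lit 0x3ab4d33ab4c3b2a1, nat_lit 5, nat_lit 5, nat_lit 0x54b2a0, nat_lit 4, nat_lit 4, nat_lit 4, nat_lit 4, nat_lit 0x33ab4d4b3ab4c3b2a0, nat_lit 5, nat_lit 0x54b2a0, nat_lit 5, nat_lit 5, nat_lit 0x54bb1, nat_lit 5, nat_lit 0x54bb1, nat_lit 4, nat_lit 4, nat_lit 0x4bb29, nat_lit 0x1a2b4d3b4c3b2a193, nat_lit 5, nat_lit 5, nat_lit 5, nat_lit 0x33891a2b4d339a2b4c3b2a193, nat_lit 4, nat_lit 4, nat_lit 4, nat_lit 4, nat_lit 4, nat_lit 4, nat_lit 4, nat_lit 0x2b4c3b2a0, nat_lit 0x4d3b4c3b2a1,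 nat_lit 5, nat_lit 5, nat_lit 5, nat_lit 5, nat_lit 0x1a2b4d3b4c3b2a191, nat_lit 4, nat_lit 4, nat_lit 4, nat_lit 0x43b4d3ab4c3b2a0, nat_lit 5, nat_lit 0x11a2b4d2b3a2b4c3b2a190, nat_lit 4, nat_lit 4, nat_lit 4, nat_lit 4, nat_lit 0x54b2a1, nat_lit 0x54b2a0, nat_lit 5, nat_lit 5, nat_lit 5, nat_lit 5, nat_lit 5, nat_lit 0x33891a2b4d339a2b4c3b2a190, nat_lit 4, nat_lit 4, nat_lit 4, nat_lit 4, nat_lit 0x11a2b4d2b3a2b4c3b2a191, nat_lit 4, nat_lit 4, nat_lit 4, nat_lit 0x54b2a1, nat_lit 5, nat_lit 5, nat_lit 5, nat_lit 5, nat_lit 5, nat_lit 5, nat_lit 0x33891a2b4d339a2b4c3b2a190, nat_lit 4, nat_lit 4, nat_lit 4, nat_lit 4, nat_lit 4, nat_lit 0x1a2b4d3b4c3b2a190, nat_lit 4, nat_lit 4, nat_lit 4, nat_lit 0x54b2a0, nat_lit 4, nat_lit 4, nat_lit 0x2b4c3b2a1, nat_lit 5, nat_lit 0x2b4c3b2a1, nat_lit 5, nat_lit 5, nat_lit 5, nat_lit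 5, nat_lit 5, nat_lit 5, nat_lit 5, nat_lit 5, nat_lit 0x4bb29, nat_lit 4, nat_lit 4, nat_lit 4, nat_lit 4, nat_lit 4, nat_lit 4, nat_lit 0x11a2b4d3a2b4c3b2a1908, nat_lit 4, nat_lit 4, nat_lit 4, nat_lit 0x43b4d3ab4c3b2a1, nat_lit 4, nat_lit 0x54b2a1, nat_lit 5, nat_lit 5, nat_lit 5, nat_lit 0x11a2b4d3a2b4c3b2a1909, nat_lit 4, nat_lit 4, nat_lit 0x54b2a1, nat_lit 5, nat_lit 5, nat_lit 5, nat_lit 5, nat_lit 0x11a2b4d2b3a2b4c3b2a191, nat_lit 4, nat_lit 4, nat_lit 4, nat_lit 4, nat_lit 0x54b2a0, nat_lit 5, nat_lit 5, nat_lit 5, nat_lit 5, nat_lit 5, nat_lit 5, nat_lit 5, nat_lit 5, nat_lit 0x4bb29, nat_lit 4, nat_lit 4, nat_lit 4, nat_lit 4, nat_lit 4, nat_lit 4, nat_lit 4, nat_lit 4, nat_lit 0x43b4d3ab4c3b2a1]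
def hsp7 : List ℕ := [nat_lit 5, nat_lit 5, nat_lit 5, nat_lit 5, nat_lit 5, nat_lit 5, nat_lit 0x328, nat_lit 4, nat_lit 4, nat_lit 4, nat_lit 4, nat_lit 4, nat_lit 4, nat_lit 0x11a2b4d3a2b4c3b2a1908, nat_lit 4, nat_lit 4, nat_lit 4, nat_lit 0x54b2a1, nat_lit 5, nat_lit 5, nat_lit 5, nat_lit 5, nat_lit 0x11a2b4d2b3a2b4c3b2a190, nat_lit 5, nat_lit 5, nat_lit 0x329, nat_lit 5, nat_lit 0x54bb0, nat_lit 4, nat_lit 4, nat_lit 4, nat_lit 4, nat_lit 4, nat_lit 0x11a2b4d2b3a2b4c3b2a191, nat_lit 5, nat_lit 5, nat_lit 5, nat_lit 5, nat_lit 0x54bb1, nat_lit 4, nat_lit 0x328, nat_lit 5, nat_lit 0x54bb1, nat_lit 4, nat_lit 4, nat_lit 0x33891a2b4d339a2b4c3b2a190, nat_lit 4, nat_lit 4, nat_lit 4, nat_lit 0x11a2b4d2b3a2b4c3b2a191, nat_lit 4, nat_lit 4, nat_lit 4, nat_lit 4, nat_lit 4, nat_lit 4, nat_lit 0x3c339a2b4d2b3a2b4c3b2a190,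 nat_lit 5, nat_lit 5, nat_lit 0x39a2b4d39a2b4c3b2a1908, nat_lit 4, nat_lit 4, nat_lit 4, nat_lit 4, nat_lit 0x11a2b4d3a2b4c3b2a1908, nat_lit 5, nat_lit 5, nat_lit 5, nat_lit 5, nat_lit 5, nat_lit 0x11a2b4d2b3a2b4c3b2a190, nat_lit 2, nat_lit 4, nat_lit 4, nat_lit 0x11a2b4d2b3a2b4c3b2a190, nat_lit 4, nat_lit 4, nat_lit 4, nat_lit 4, nat_lit 4, nat_lit 4, nat_lit 0x11a2b4d3a2b4c3b2a1909, nat_lit 5, nat_lit 5, nat_lit 5, nat_lit 0x39a2b4d39a2b4c3b2a1909, nat_lit 5, nat_lit 5, nat_lit 5, nat_lit 5, nat_lit 0x4bb28, nat_lit 4, nat_lit 0x4bb29, nat_lit 0x329, nat_lit 4, nat_lit 4, nat_lit 4, nat_lit 4, nat_lit 4, nat_lit 0x11a2b4d3a2b4c3b2a1908, nat_lit 4, nat_lit 4, nat_lit 2, nat_lit 5, nat_lit 5, nat_lit 5, nat_lit 0x4bb28, nat_lit 4, nat_lit 4, nat_lit 4, nat_lit 4, nat_lit 4, nat_lit 0x11a2b4d33ab4c3b2a190, nat_lit 0x39a2b4d39a2b4c3b2a1908,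 nat_lit 0x11a2b4d2b3a2b4c3b2a190, nat_lit 2, nat_lit 5, nat_lit 0x329, nat_lit 4, nat_lit 0x39a2b4d33a2b4c3b2a191, nat_lit 4, nat_lit 4, nat_lit 0x11a2b4d2b3a2b4c3b2a190, nat_lit 0x11a2b4d33ab4c3b2a190, nat_lit 2, nat_lit 4, nat_lit 4, nat_lit 0x11a2b4d33ab4c3b2a190, nat_lit 2, nat_lit 4, nat_lit 4, nat_lit 2]
def hsp : List ℕ := hsp0 ++ (hsp1 ++ (hsp2 ++ (hsp3 ++ (hsp4 ++ (hsp5 ++ (hsp6 ++ (hsp7)))))))
def he70 : List ℕ := [nat_lit 5, nat_lit 5, nat_lit 5, nat_lit 5, nat_lit 5, nat_lit 5, nat_lit 5, nat_lit 5, nat_lit 5, nat_lit 5, nat_lit 5, nat_lit 5, nat_lit 5, nat_lit 5, nat_lit 5, nat_lit 5, nat_lit 5, nat_lit 5, nat_lit 5, nat_lit 5, nat_lit 5, nat_lit 5, nat_lit 5, nat_lit 5, nat_lit 5, nat_lit 5, nat_lit 5, nat_lit 5, nat_lit 5, nat_lit 5, nat_lit 5, nat_lit 5, nat_lit 5, nat_lit 5, nat_lit 5, nat_lit 5, nat_lit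 5, nat_lit 5, nat_lit 5, nat_lit 5, nat_lit 5, nat_lit 5, nat_lit 5, nat_lit 5, nat_lit 5, nat_lit 5, nat_lit 5, nat_lit 5, nat_lit 5, nat_lit 5, nat_lit 5, nat_lit 5, nat_lit 5, nat_lit 5, nat_lit 5, nat_lit 5, nat_lit 5, nat_lit 0x28, nat_lit 0x30, nat_lit 0x38, nat_lit 0x48, nat_lit 0x30, nat_lit 0x18, nat_lit 0x20, nat_lit 0x28, nat_lit 0x30, nat_lit 0x38, nat_lit 0x40, nat_lit 0x48, nat_lit 0x18, nat_lit 0x20, nat_lit 0x28, nat_lit 0x30, nat_lit 0x38, nat_lit 0x40, nat_lit 0x48, nat_lit 0x18, nat_lit 2, nat_lit 4, nat_lit 0x28, nat_lit 0x30, nat_lit 0x38, nat_lit 0x40, nat_lit 0x48, nat_lit 2, nat_lit 4, nat_lit 4, nat_lit 4, nat_lit 4, nat_lit 4, nat_lit 4, nat_lit 4, nat_lit 4, nat_lit 4, nat_lit 4, nat_lit 4, nat_lit 4, nat_lit 4, nat_lit 4, nat_lit 4, nat_lit 4, nat_lit 4, nat_lit 4, nat_lit 4, nat_lit 4, nat_lit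 4, nat_lit 4, nat_lit 4, nat_lit 4, nat_lit 4, nat_lit 4, nat_lit 4, nat_lit 4, nat_lit 4, nat_lit 4, nat_lit 0x38, nat_lit 0x48, nat_lit 0x30, nat_lit 0x48, nat_lit 0x38, nat_lit 0x28, nat_lit 0x30, nat_lit 0x38, nat_lit 0x48, nat_lit 2, nat_lit 4, nat_lit 4, nat_lit 0x48, nat_lit 0x18, nat_lit 0x20, nat_lit 0x28, nat_lit 0x30, nat_lit 0x38, nat_lit 0x40, nat_lit 0x48, nat_lit 0x18, nat_lit 0x20, nat_lit 0x28, nat_lit 0x30, nat_lit 0x38, nat_lit 0x40, nat_lit 0x48, nat_lit 0x28, nat_lit 0x30, nat_lit 0x38, nat_lit 2, nat_lit 4, nat_lit 4, nat_lit 4, nat_lit 4, nat_lit 4, nat_lit 4, nat_lit 4, nat_lit 4, nat_lit 4, nat_lit 4, nat_lit 4, nat_lit 4, nat_lit 4, nat_lit 4, nat_lit 4, nat_lit 4, nat_lit 4, nat_lit 4, nat_lit 4, nat_lit 4, nat_lit 4, nat_lit 4, nat_lit 4, nat_lit 4, nat_lit 4, nat_lit 4, nat_lit 4, nat_lit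 4, nat_lit 4, nat_lit 4, nat_lit 4, nat_lit 4, nat_lit 4, nat_lit 4, nat_lit 4, nat_lit 4, nat_lit 4, nat_lit 4, nat_lit 4, nat_lit 4, nat_lit 4, nat_lit 4, nat_lit 4, nat_lit 4, nat_lit 4, nat_lit 4, nat_lit 4, nat_lit 4, nat_lit 4, nat_lit 4, nat_lit 4, nat_lit 0x28, nat_lit 0x30, nat_lit 0x48, nat_lit 0x40, nat_lit 0x38, nat_lit 0x30, nat_lit 0x28, nat_lit 0x20, nat_lit 0x18, nat_lit 0x20, nat_lit 0x28, nat_lit 0x30, nat_lit 0x38, nat_lit 0x40, nat_lit 0x48, nat_lit 0x30, nat_lit 0x28, nat_lit 0x20, nat_lit 0x38, nat_lit 0x30, nat_lit 0x28, nat_lit 0x48, nat_lit 0x30, nat_lit 0x38, nat_lit 0x40, nat_lit 0x38, nat_lit 0x48, nat_lit 0x30, nat_lit 0x48, nat_lit 0x38, nat_lit 0x28, nat_lit 0x30, nat_lit 0x48, nat_lit 0x18, nat_lit 0x20, nat_lit 0x28, nat_lit 0x30, nat_lit 0x38, nat_lit 2, nat_lit 4, nat_lit 4, nat_lit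 4, nat_lit 4, nat_lit 4, nat_lit 4, nat_lit 0x18, nat_lit 0x20, nat_lit 0x28, nat_lit 0x30, nat_lit 0x38, nat_lit 0x48, nat_lit 0x18, nat_lit 0x20, nat_lit 0x28, nat_lit 0x30, nat_lit 0x38, nat_lit 0x40, nat_lit 0x48, nat_lit 0x28, nat_lit 0x30, nat_lit 0x38, nat_lit 2, nat_lit 4, nat_lit 4, nat_lit 4, nat_lit 4, nat_lit 4, nat_lit 4, nat_lit 4, nat_lit 4, nat_lit 4, nat_lit 4, nat_lit 4, nat_lit 4, nat_lit 4, nat_lit 4, nat_lit 4, nat_lit 4, nat_lit 4, nat_lit 0x18, nat_lit 0x20, nat_lit 0x28, nat_lit 0x30, nat_lit 0x38, nat_lit 0x48, nat_lit 0x18, nat_lit 0x20, nat_lit 0x28, nat_lit 0x30, nat_lit 0x38, nat_lit 0x40, nat_lit 0x48, nat_lit 0x28, nat_lit 0x30, nat_lit 0x38, nat_lit 0x20, nat_lit 0x28, nat_lit 0x30, nat_lit 2, nat_lit 4, nat_lit 4, nat_lit 4, nat_lit 0x28, nat_lit 0x30, nat_lit 0x40, nat_lit 0x48, nat_lit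 0x18, nat_lit 0x20, nat_lit 0x28, nat_lit 0x30, nat_lit 0x38, nat_lit 0x40, nat_lit 0x48, nat_lit 0x18, nat_lit 0x20, nat_lit 0x28, nat_lit 0x30, nat_lit 0x38, nat_lit 2, nat_lit 4, nat_lit 4, nat_lit 4, nat_lit 4, nat_lit 4, nat_lit 4, nat_lit 4, nat_lit 4, nat_lit 4, nat_lit 4, nat_lit 4, nat_lit 4, nat_lit 4, nat_lit 4, nat_lit 4, nat_lit 4, nat_lit 4, nat_lit 4, nat_lit 4, nat_lit 4, nat_lit 4, nat_lit 4, nat_lit 4, nat_lit 4, nat_lit 4, nat_lit 4, nat_lit 4, nat_lit 4, nat_lit 4, nat_lit 4, nat_lit 4, nat_lit 4, nat_lit 0x20, nat_lit 0x28, nat_lit 0x30, nat_lit 0x38, nat_lit 0x48, nat_lit 0x18, nat_lit 0x20, nat_lit 0x28, nat_lit 0x30, nat_lit 0x38, nat_lit 0x40, nat_lit 0x48, nat_lit 0x28, nat_lit 0x30, nat_lit 0x38, nat_lit 2, nat_lit 4, nat_lit 4, nat_lit 4, nat_lit 4, nat_lit 4, nat_lit 4, nat_lit 4, nat_lit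 4, nat_lit 4, nat_lit 4, nat_lit 4, nat_lit 4, nat_lit 4, nat_lit 4, nat_lit 4, nat_lit 4, nat_lit 4, nat_lit 0x28, nat_lit 0x20, nat_lit 0x28, nat_lit 0x30, nat_lit 0x38, nat_lit 0x48, nat_lit 0x18, nat_lit 0x20, nat_lit 0x28, nat_lit 0x30, nat_lit 0x38, nat_lit 0x40, nat_lit 0x48, nat_lit 0x28, nat_lit 0x30, nat_lit 0x38, nat_lit 0x30, nat_lit 2, nat_lit 4]
def he71 : List ℕ := [nat_lit 4, nat_lit 4, nat_lit 4, nat_lit 4, nat_lit 4, nat_lit 4, nat_lit 4, nat_lit 4, nat_lit 4, nat_lit 4, nat_lit 4, nat_lit 4, nat_lit 4, nat_lit 4, nat_lit 4, nat_lit 4, nat_lit 0x20, nat_lit 0x28, nat_lit 0x30, nat_lit 0x38, nat_lit 0x48, nat_lit 0x18, nat_lit 0x20, nat_lit 0x28, nat_lit 0x30, nat_lit 0x38, nat_lit 0x40, nat_lit 0x48, nat_lit 0x28, nat_lit 0x30, nat_lit 0x38, nat_lit 0x30, nat_lit 0x48, nat_lit 2, nat_lit 4, nat_lit 4,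 nat_lit 4, nat_lit 4, nat_lit 4, nat_lit 4, nat_lit 4, nat_lit 4, nat_lit 4, nat_lit 4, nat_lit 4, nat_lit 4, nat_lit 4, nat_lit 4, nat_lit 4, nat_lit 4, nat_lit 4, nat_lit 4, nat_lit 4, nat_lit 4, nat_lit 4, nat_lit 4, nat_lit 4, nat_lit 4, nat_lit 4, nat_lit 4, nat_lit 4, nat_lit 4, nat_lit 4, nat_lit 4, nat_lit 0x20, nat_lit 0x38, nat_lit 0x30, nat_lit 0x28, nat_lit 0x48, nat_lit 0x30, nat_lit 0x38, nat_lit 0x40, nat_lit 0x38, nat_lit 0x48, nat_lit 0x30, nat_lit 0x48, nat_lit 0x20, nat_lit 0x28, nat_lit 0x30, nat_lit 0x38, nat_lit 0x48, nat_lit 0x18, nat_lit 0x20, nat_lit 0x28, nat_lit 0x30, nat_lit 0x38, nat_lit 0x40, nat_lit 0x48, nat_lit 0x28, nat_lit 0x30, nat_lit 0x38, nat_lit 0x30, nat_lit 2, nat_lit 4, nat_lit 4, nat_lit 4, nat_lit 4, nat_lit 4, nat_lit 4, nat_lit 4, nat_lit 4, nat_lit 4, nat_lit 4, nat_lit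 4, nat_lit 4, nat_lit 4, nat_lit 4, nat_lit 4, nat_lit 4, nat_lit 4, nat_lit 4, nat_lit 4, nat_lit 4, nat_lit 4, nat_lit 4, nat_lit 4, nat_lit 4, nat_lit 4, nat_lit 4, nat_lit 4, nat_lit 4, nat_lit 4, nat_lit 4, nat_lit 4, nat_lit 4, nat_lit 0x40, nat_lit 0x48, nat_lit 0x30, nat_lit 0x20, nat_lit 0x38, nat_lit 0x30, nat_lit 0x28, nat_lit 0x48, nat_lit 0x30, nat_lit 0x38, nat_lit 0x40, nat_lit 0x38, nat_lit 0x48, nat_lit 0x30, nat_lit 2, nat_lit 4, nat_lit 4, nat_lit 4, nat_lit 4, nat_lit 4, nat_lit 4, nat_lit 4, nat_lit 4, nat_lit 4, nat_lit 4, nat_lit 4, nat_lit 4, nat_lit 4, nat_lit 4, nat_lit 4, nat_lit 4, nat_lit 4, nat_lit 4, nat_lit 4, nat_lit 4, nat_lit 4, nat_lit 4, nat_lit 4, nat_lit 4, nat_lit 4, nat_lit 4, nat_lit 4, nat_lit 4, nat_lit 4, nat_lit 0x30, nat_lit 0x38, nat_lit 0x28, nat_lit 0x30, nat_lit 0x48,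 nat_lit 0x40, nat_lit 0x38, nat_lit 0x30, nat_lit 0x28, nat_lit 0x20, nat_lit 0x18, nat_lit 0x20, nat_lit 0x28, nat_lit 0x30, nat_lit 2, nat_lit 5, nat_lit 5, nat_lit 5, nat_lit 5, nat_lit 5, nat_lit 5, nat_lit 5, nat_lit 5, nat_lit 5, nat_lit 5, nat_lit 5, nat_lit 5, nat_lit 0x20, nat_lit 0x28, nat_lit 0x30, nat_lit 0x38, nat_lit 0x48, nat_lit 0x18, nat_lit 0x20, nat_lit 0x28, nat_lit 0x30, nat_lit 0x38, nat_lit 0x40, nat_lit 0x48, nat_lit 0x28, nat_lit 0x30, nat_lit 0x38, nat_lit 0x30, nat_lit 0x20, nat_lit 0x28, nat_lit 0x30, nat_lit 2, nat_lit 4, nat_lit 4, nat_lit 4, nat_lit 0x28, nat_lit 0x30, nat_lit 0x40, nat_lit 0x48, nat_lit 0x18, nat_lit 0x20, nat_lit 0x28, nat_lit 0x30, nat_lit 0x38, nat_lit 0x48, nat_lit 0x18, nat_lit 0x20, nat_lit 0x28, nat_lit 0x30, nat_lit 2, nat_lit 4, nat_lit 4, nat_lit 4, nat_lit 4,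 nat_lit 0x20, nat_lit 0x28, nat_lit 0x30, nat_lit 0x40, nat_lit 0x48, nat_lit 0x18, nat_lit 0x20, nat_lit 0x28, nat_lit 0x30, nat_lit 0x38, nat_lit 0x40, nat_lit 2, nat_lit 4, nat_lit 4, nat_lit 4, nat_lit 4, nat_lit 4, nat_lit 4, nat_lit 4, nat_lit 4, nat_lit 4, nat_lit 4, nat_lit 4, nat_lit 4, nat_lit 4, nat_lit 4, nat_lit 4, nat_lit 4, nat_lit 4, nat_lit 4, nat_lit 4, nat_lit 4, nat_lit 4, nat_lit 4, nat_lit 0x28, nat_lit 0x30, nat_lit 0x40, nat_lit 0x48, nat_lit 0x18, nat_lit 0x20, nat_lit 0x28, nat_lit 0x30, nat_lit 0x38, nat_lit 0x48, nat_lit 2, nat_lit 5, nat_lit 5, nat_lit 5, nat_lit 5, nat_lit 0x20, nat_lit 0x28, nat_lit 0x30, nat_lit 0x38, nat_lit 0x40, nat_lit 0x18, nat_lit 0x20, nat_lit 0x28, nat_lit 0x30, nat_lit 0x38, nat_lit 2, nat_lit 4, nat_lit 4, nat_lit 4, nat_lit 4, nat_lit 4, nat_lit 4, nat_lit 4,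 nat_lit 4, nat_lit 4, nat_lit 4, nat_lit 4, nat_lit 4, nat_lit 4, nat_lit 4, nat_lit 4, nat_lit 4, nat_lit 4, nat_lit 4, nat_lit 4, nat_lit 4, nat_lit 4, nat_lit 4, nat_lit 4, nat_lit 4, nat_lit 4, nat_lit 4, nat_lit 4, nat_lit 4, nat_lit 4, nat_lit 4, nat_lit 4, nat_lit 4, nat_lit 4, nat_lit 4, nat_lit 4, nat_lit 4, nat_lit 4, nat_lit 4, nat_lit 4, nat_lit 4, nat_lit 4, nat_lit 0x48, nat_lit 0x20, nat_lit 0x28, nat_lit 0x30, nat_lit 0x38, nat_lit 0x48, nat_lit 0x18, nat_lit 0x20, nat_lit 0x28, nat_lit 0x30, nat_lit 0x38, nat_lit 0x40, nat_lit 0x48, nat_lit 0x28, nat_lit 0x30, nat_lit 0x38, nat_lit 0x28, nat_lit 0x30, nat_lit 2, nat_lit 4, nat_lit 4, nat_lit 4, nat_lit 4, nat_lit 4, nat_lit 4, nat_lit 0x28, nat_lit 0x30, nat_lit 0x38, nat_lit 0x28, nat_lit 0x30, nat_lit 0x48, nat_lit 0x18, nat_lit 0x20, nat_lit 0x28,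 nat_lit 0x30, nat_lit 0x38, nat_lit 0x48, nat_lit 0x28, nat_lit 0x30, nat_lit 0x40, nat_lit 0x48, nat_lit 0x20, nat_lit 0x28, nat_lit 0x30, nat_lit 0x38, nat_lit 2, nat_lit 4, nat_lit 4, nat_lit 4, nat_lit 4, nat_lit 4, nat_lit 4, nat_lit 4, nat_lit 4, nat_lit 4, nat_lit 4, nat_lit 4, nat_lit 4, nat_lit 4, nat_lit 4, nat_lit 4]
def he72 : List ℕ := [nat_lit 4, nat_lit 4, nat_lit 4, nat_lit 4, nat_lit 4, nat_lit 4, nat_lit 4, nat_lit 4, nat_lit 4, nat_lit 4, nat_lit 4, nat_lit 4, nat_lit 4, nat_lit 0x48, nat_lit 0x18, nat_lit 0x20, nat_lit 0x28, nat_lit 0x30, nat_lit 0x38, nat_lit 0x40, nat_lit 0x28, nat_lit 0x30, nat_lit 0x38, nat_lit 2, nat_lit 4, nat_lit 4, nat_lit 4, nat_lit 4, nat_lit 4, nat_lit 4, nat_lit 4, nat_lit 4, nat_lit 4, nat_lit 4, nat_lit 4, nat_lit 4, nat_lit 4, nat_lit 4, nat_lit 0x20, nat_lit 0x28, nat_lit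 0x30, nat_lit 0x48, nat_lit 0x18, nat_lit 0x20, nat_lit 0x28, nat_lit 0x30, nat_lit 0x38, nat_lit 0x40, nat_lit 2, nat_lit 4, nat_lit 4, nat_lit 4, nat_lit 4, nat_lit 4, nat_lit 4, nat_lit 4, nat_lit 4, nat_lit 4, nat_lit 4, nat_lit 4, nat_lit 0x20, nat_lit 0x28, nat_lit 0x30, nat_lit 0x48, nat_lit 0x18, nat_lit 0x20, nat_lit 0x28, nat_lit 0x30, nat_lit 0x38, nat_lit 0x40, nat_lit 0x30, nat_lit 0x38, nat_lit 2, nat_lit 4, nat_lit 4, nat_lit 4, nat_lit 4, nat_lit 4, nat_lit 4, nat_lit 4, nat_lit 4, nat_lit 4, nat_lit 4, nat_lit 4, nat_lit 4, nat_lit 4, nat_lit 4, nat_lit 4, nat_lit 4, nat_lit 4, nat_lit 4, nat_lit 4, nat_lit 0x38, nat_lit 0x30, nat_lit 0x28, nat_lit 0x48, nat_lit 0x30, nat_lit 0x38, nat_lit 0x20, nat_lit 0x28, nat_lit 0x30, nat_lit 0x48, nat_lit 0x18, nat_lit 0x20, nat_lit 0x28, nat_lit 0x30, nat_lit 0x38,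 nat_lit 0x40, nat_lit 2, nat_lit 4, nat_lit 4, nat_lit 4, nat_lit 4, nat_lit 4, nat_lit 4, nat_lit 4, nat_lit 4, nat_lit 4, nat_lit 4, nat_lit 0x28, nat_lit 0x30, nat_lit 0x48, nat_lit 0x18, nat_lit 0x20, nat_lit 0x28, nat_lit 0x30, nat_lit 0x38, nat_lit 0x40, nat_lit 0x38, nat_lit 0x48, nat_lit 0x18, nat_lit 0x20, nat_lit 0x28, nat_lit 0x30, nat_lit 0x38, nat_lit 0x48, nat_lit 0x28, nat_lit 0x30, nat_lit 2, nat_lit 4, nat_lit 4, nat_lit 4, nat_lit 4, nat_lit 4, nat_lit 4, nat_lit 4, nat_lit 4, nat_lit 4, nat_lit 4, nat_lit 4, nat_lit 4, nat_lit 4, nat_lit 4, nat_lit 4, nat_lit 4, nat_lit 4, nat_lit 4, nat_lit 4, nat_lit 4, nat_lit 4, nat_lit 4, nat_lit 4, nat_lit 4, nat_lit 4, nat_lit 4, nat_lit 4, nat_lit 4, nat_lit 0x48, nat_lit 0x30, nat_lit 0x38, nat_lit 0x30, nat_lit 0x28, nat_lit 0x48, nat_lit 0x30, nat_lit 0x38,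 nat_lit 2, nat_lit 4, nat_lit 4, nat_lit 4, nat_lit 4, nat_lit 4, nat_lit 4, nat_lit 4, nat_lit 0x38, nat_lit 0x30, nat_lit 0x28, nat_lit 0x48, nat_lit 0x30, nat_lit 0x38, nat_lit 2, nat_lit 4, nat_lit 4, nat_lit 4, nat_lit 4, nat_lit 4, nat_lit 4, nat_lit 4, nat_lit 4, nat_lit 0x48, nat_lit 0x38, nat_lit 0x30, nat_lit 0x28, nat_lit 0x48, nat_lit 0x30, nat_lit 0x38, nat_lit 2, nat_lit 4, nat_lit 4, nat_lit 4, nat_lit 4, nat_lit 4, nat_lit 4, nat_lit 4, nat_lit 4, nat_lit 4, nat_lit 4, nat_lit 0x18, nat_lit 0x20, nat_lit 0x48, nat_lit 0x38, nat_lit 0x30, nat_lit 0x28, nat_lit 0x48, nat_lit 0x30, nat_lit 0x38, nat_lit 2, nat_lit 4, nat_lit 4, nat_lit 4, nat_lit 4, nat_lit 4, nat_lit 4, nat_lit 4, nat_lit 4, nat_lit 0x48, nat_lit 0x38, nat_lit 0x30, nat_lit 0x28, nat_lit 0x48, nat_lit 0x30, nat_lit 0x38, nat_lit 0x20, nat_lit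 0x28, nat_lit 0x30, nat_lit 2, nat_lit 4, nat_lit 4, nat_lit 4, nat_lit 4, nat_lit 4, nat_lit 4, nat_lit 4, nat_lit 4, nat_lit 4, nat_lit 4, nat_lit 4, nat_lit 4, nat_lit 4, nat_lit 4, nat_lit 0x30, nat_lit 0x28, nat_lit 0x18, nat_lit 0x48, nat_lit 0x38, nat_lit 0x30, nat_lit 0x28, nat_lit 0x48, nat_lit 2, nat_lit 4, nat_lit 4, nat_lit 4, nat_lit 4, nat_lit 4, nat_lit 4, nat_lit 4, nat_lit 4, nat_lit 4, nat_lit 4, nat_lit 4, nat_lit 0x48, nat_lit 0x40, nat_lit 0x30, nat_lit 0x28, nat_lit 0x18, nat_lit 2, nat_lit 4, nat_lit 4, nat_lit 4, nat_lit 4, nat_lit 4, nat_lit 4, nat_lit 4, nat_lit 4, nat_lit 4, nat_lit 4, nat_lit 0x48, nat_lit 0x30, nat_lit 0x38, nat_lit 0x28, nat_lit 2, nat_lit 4, nat_lit 4, nat_lit 4, nat_lit 4, nat_lit 4, nat_lit 0x48, nat_lit 0x30, nat_lit 0x38, nat_lit 0x28, nat_lit 0x40, nat_lit 0x30, nat_lit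 2, nat_lit 4, nat_lit 0x18, nat_lit 0x38, nat_lit 0x30, nat_lit 0x28, nat_lit 0x48, nat_lit 2, nat_lit 4, nat_lit 4, nat_lit 4, nat_lit 4, nat_lit 4, nat_lit 4, nat_lit 4, nat_lit 4, nat_lit 4, nat_lit 4, nat_lit 4, nat_lit 0x48, nat_lit 0x30, nat_lit 0x38, nat_lit 0x28, nat_lit 0x40, nat_lit 0x18, nat_lit 2, nat_lit 4, nat_lit 4, nat_lit 0x18, nat_lit 0x30, nat_lit 0x28, nat_lit 0x48, nat_lit 0x20, nat_lit 0x28, nat_lit 0x30, nat_lit 2, nat_lit 4, nat_lit 4, nat_lit 4, nat_lit 4, nat_lit 0x20, nat_lit 0x28, nat_lit 0x30, nat_lit 0x38, nat_lit 0x48, nat_lit 0x18, nat_lit 0x20, nat_lit 0x28, nat_lit 0x30, nat_lit 0x38, nat_lit 0x48, nat_lit 0x28, nat_lit 0x30, nat_lit 2, nat_lit 4, nat_lit 4, nat_lit 4, nat_lit 4, nat_lit 4, nat_lit 4, nat_lit 4, nat_lit 4, nat_lit 4, nat_lit 4, nat_lit 4, nat_lit 4, nat_lit 4, nat_lit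 4, nat_lit 4, nat_lit 4, nat_lit 4, nat_lit 4, nat_lit 4, nat_lit 4, nat_lit 4, nat_lit 0x48, nat_lit 0x30, nat_lit 0x38, nat_lit 0x28, nat_lit 0x18, nat_lit 0x30, nat_lit 0x28, nat_lit 0x20, nat_lit 0x28, nat_lit 0x30, nat_lit 0x38, nat_lit 0x48, nat_lit 0x18, nat_lit 0x20]
def he73 : List ℕ := [nat_lit 2, nat_lit 4, nat_lit 4, nat_lit 4, nat_lit 4, nat_lit 4, nat_lit 4, nat_lit 4, nat_lit 4, nat_lit 4, nat_lit 4, nat_lit 4, nat_lit 4, nat_lit 4, nat_lit 4, nat_lit 4, nat_lit 4, nat_lit 4, nat_lit 0x30, nat_lit 0x28, nat_lit 0x48, nat_lit 0x30, nat_lit 0x38, nat_lit 2, nat_lit 4, nat_lit 4, nat_lit 4, nat_lit 4, nat_lit 4, nat_lit 4, nat_lit 4, nat_lit 0x38, nat_lit 0x30, nat_lit 0x28, nat_lit 0x48, nat_lit 0x30, nat_lit 0x38, nat_lit 0x18, nat_lit 2, nat_lit 5, nat_lit 5, nat_lit 5, nat_lit 5, nat_lit 5, nat_lit 5,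 nat_lit 5, nat_lit 0x30, nat_lit 0x38, nat_lit 0x48, nat_lit 0x28, nat_lit 0x30, nat_lit 0x20, nat_lit 0x28, nat_lit 2, nat_lit 4, nat_lit 4, nat_lit 4, nat_lit 4, nat_lit 4, nat_lit 4, nat_lit 4, nat_lit 4, nat_lit 4, nat_lit 4, nat_lit 4, nat_lit 4, nat_lit 4, nat_lit 4, nat_lit 4, nat_lit 4, nat_lit 4, nat_lit 4, nat_lit 4, nat_lit 4, nat_lit 4, nat_lit 4, nat_lit 4, nat_lit 4, nat_lit 4, nat_lit 0x18, nat_lit 0x20, nat_lit 0x28, nat_lit 0x38, nat_lit 0x30, nat_lit 0x28, nat_lit 0x48, nat_lit 0x30, nat_lit 0x38, nat_lit 2, nat_lit 4, nat_lit 0x28, nat_lit 0x20, nat_lit 0x28, nat_lit 0x30, nat_lit 0x38, nat_lit 0x48, nat_lit 0x18, nat_lit 0x30, nat_lit 0x38, nat_lit 2, nat_lit 4, nat_lit 4, nat_lit 4, nat_lit 0x30, nat_lit 0x38, nat_lit 0x28, nat_lit 0x30, nat_lit 0x20, nat_lit 0x28, nat_lit 0x38, nat_lit 0x18, nat_lit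 0x20, nat_lit 2, nat_lit 4, nat_lit 4, nat_lit 4, nat_lit 4, nat_lit 4, nat_lit 4, nat_lit 4, nat_lit 4, nat_lit 4, nat_lit 4, nat_lit 4, nat_lit 4, nat_lit 4, nat_lit 4, nat_lit 4, nat_lit 4, nat_lit 4, nat_lit 4, nat_lit 4, nat_lit 4, nat_lit 4, nat_lit 4, nat_lit 4, nat_lit 4, nat_lit 0x18, nat_lit 0x20, nat_lit 0x28, nat_lit 0x38, nat_lit 0x30, nat_lit 0x28, nat_lit 0x48, nat_lit 0x30, nat_lit 0x28, nat_lit 0x20, nat_lit 0x28, nat_lit 2, nat_lit 4, nat_lit 4, nat_lit 4, nat_lit 4, nat_lit 4, nat_lit 4, nat_lit 4, nat_lit 4, nat_lit 4, nat_lit 4, nat_lit 4, nat_lit 4, nat_lit 4, nat_lit 0x30, nat_lit 0x18, nat_lit 0x20, nat_lit 0x28, nat_lit 0x38, nat_lit 0x30, nat_lit 2, nat_lit 4, nat_lit 0x48, nat_lit 0x30, nat_lit 0x28, nat_lit 0x20, nat_lit 0x28, nat_lit 0x38, nat_lit 2, nat_lit 4, nat_lit 4, nat_lit 4, nat_lit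 4, nat_lit 4, nat_lit 4, nat_lit 4, nat_lit 4, nat_lit 4, nat_lit 4, nat_lit 4, nat_lit 4, nat_lit 4, nat_lit 0x48, nat_lit 0x30, nat_lit 0x18, nat_lit 0x20, nat_lit 0x28, nat_lit 0x38, nat_lit 2, nat_lit 5, nat_lit 5, nat_lit 5, nat_lit 0x38, nat_lit 0x30, nat_lit 0x38, nat_lit 0x28, nat_lit 0x30, nat_lit 0x20, nat_lit 0x28, nat_lit 2, nat_lit 4, nat_lit 4, nat_lit 4, nat_lit 4, nat_lit 4, nat_lit 4, nat_lit 4, nat_lit 4, nat_lit 4, nat_lit 4, nat_lit 4, nat_lit 4, nat_lit 0x38, nat_lit 0x30, nat_lit 0x28, nat_lit 0x20, nat_lit 0x38, nat_lit 0x30, nat_lit 2, nat_lit 4, nat_lit 4, nat_lit 4, nat_lit 4, nat_lit 4, nat_lit 4, nat_lit 4, nat_lit 4, nat_lit 4, nat_lit 0x18, nat_lit 0x20, nat_lit 0x38, nat_lit 0x30, nat_lit 0x28, nat_lit 0x20, nat_lit 2, nat_lit 4, nat_lit 4, nat_lit 4, nat_lit 0x28, nat_lit 0x20, nat_lit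 0x30, nat_lit 0x28, nat_lit 0x30, nat_lit 2, nat_lit 4, nat_lit 4, nat_lit 4, nat_lit 0x28, nat_lit 0x30, nat_lit 2, nat_lit 4, nat_lit 0x18, nat_lit 0x20, nat_lit 2, nat_lit 4, nat_lit 4, nat_lit 4, nat_lit 4, nat_lit 4, nat_lit 4, nat_lit 4, nat_lit 0x38, nat_lit 0x28, nat_lit 0x20, nat_lit 2, nat_lit 4, nat_lit 4, nat_lit 4, nat_lit 4, nat_lit 4, nat_lit 4, nat_lit 0x48, nat_lit 0x18, nat_lit 0x38, nat_lit 2, nat_lit 4, nat_lit 4, nat_lit 0x38, nat_lit 0x20, nat_lit 0x18, nat_lit 2, nat_lit 4, nat_lit 4, nat_lit 4, nat_lit 4, nat_lit 4, nat_lit 0x48, nat_lit 0x38, nat_lit 2, nat_lit 4, nat_lit 0x18, nat_lit 2, nat_lit 4, nat_lit 4, nat_lit 4, nat_lit 0x48, nat_lit 2, nat_lit 4, nat_lit 2]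
def he7 : List ℕ := he70 ++ (he71 ++ (he72 ++ (he73)))
def wl : List ℕ := [3, 4, 5, 6, 7, 10, 5, 4, 3, 6, 5, 4, 10, 5, 6, 7]
def wy : List ℕ := [3, 4, 5, 6, 7, 8, 9, 10, 5, 4, 3, 6, 5, 7, 11, 10, 5, 4, 3, 6, 5, 4, 7, 6, 8, 7, 10, 5, 6, 11, 10, 5, 4, 3, 2]
def wm : List ℕ := [4, 5, 10, 11, 10, 3]
noncomputable def sig0 : List ℕ := dec16 0x76bc95678d6bcb89678d1
noncomputable def sigL : List ℕ := dec16 0xc8dcba9786756bca789678d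
noncomputable def steps : List (List ℕ × List ℕ) := [(dec16 0x76bc98d786756bc8978d, dec16 0x876b5678956456789b657cb654),
  (dec16 0x678d6bca895678d, dec16 0xb6756b89786756bcb6756b89786756bc89786756b567895678675645678b657cb654),
  (dec16 0x678d756bcba89678d, dec16 0xb6756b789786756456789b657687b65),
  (dec16 0xc9678dbca98d1, dec16 0x876b56787456789b67cb654),
  (dec16 0xc9678d6756bca95678d1, dec16 0x76b674567b),
  (dec16 0x6bc8978d31, dec16 0x876bc56b786756bc6756ba678567545678b6576bcb6547687b6),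
  (dec16 0x6bc8978d31, dec16 0x76b6764567b65),
  (dec16 0xbc678d31, dec16 0x9876ba45678),
  (dec16 0xbc678d31, dec16 0x76b6764567b65),
  (dec16 0x76bca98d31, dec16 0x6bcb67456bc),
  (dec16 0x76bca98d31, dec16 0x76b6764567b65),
  (dec16 0x9a895678d, dec16 0x6b6764567b65),
  (dec16 0x9a895678d, dec16 0xb6756b567856756545678),
  (dec16 0xc89a789678d31, dec16 0xb6756b89786756b678967645678),
  (dec16 0xc89a789678d31, dec16 0x76b6764567b65),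
  (dec16 0x56bcb789678d, dec16 0x76b9a96764567b65),
  (dec16 0x756bc678d76bc95678d1, dec16 0x56b9786756bc9876b5456789b65768cb654765876b6),
  (dec16 0xa9876bcb5678d6bc98d3, dec16 0xb786756bcb8978765456789b678cb67),
  (dec16 0xca98dbcb89678d1, dec16 0xb6756bcb6756b89786756bcb6756b89786756b678967867565456789b6547658cb65476589b678),
  (dec16 0xcba986756bc8da9876bc98d, dec16 0xcb6756b89786756bcb6756b89786756bc756b89786756b67895678765456789b657687b65cb67),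
  (dec16 0x56bca98da9876bc8978d, dec16 0x76bc56b786756bc98756b789567456789b657687bcb65476bc),
  (dec16 0xa986756bc978d86756bca8978d3, dec16 0xbc6756b89786756bc6b786756b67895678565456789b657687bcb65476bc),
  (dec16 0xba986756bcd986756bca8978d1, dec16 0x6bc786756b8978676456789b657687bcb65476bc),
  (dec16 0xc9678dcb9786756bca89678d1, dec16 0xba986756bcb86756b9a89786756bcba89786756ba67895678565456789ab654768798b6cb65476),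
  (dec16 0x6b9786756bca98d8756bca978d, dec16 0xb6756b5678567545678b6576bcb6547687),
  (dec16 0x78dcb9786756bc895678d, dec16 0x9876bc56b9786756bc986756b785676456789b65476587cb654765b678),
  (dec16 0x8756bcdb86756bc8978d31, dec16 0xcb6756b89786756bcb6756b89786756bc6b9786756b56789567565456789b65768bcb65476),
  (dec16 0xa9786756bc98d986756bc8978d, dec16 0x756b89786756bcb6756b89786756bcb986756b678978676456789b654765876cb654765bc),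
  (dec16 0xba9786756bc8db86756bc8978d1, dec16 0xbc6756b89786756bc6b786756b67895678565456789b657687bcb65476bc),
  (dec16 0x9876bc5678d6bca895678d, dec16 0xbc756b89786756bcb86756b9678765456789b654768bcb65476589b6),
  (dec16 0x9876bc8d786756bca8978d1, dec16 0xb6756b95675456789b657cb654),
  (dec16 0x8756bca98da986756bc9678d, dec16 0x86756bc8756b678745678b6576bcb65476879b),
  (dec16 0xc8dcba9786756bca789678d, dec16 0x9876bc56b9786756bc986756b56789678456789b6547687cb654765b67)]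

end H18.Fi24
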