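import Cfsg.Agent.Lib.CosetEnum.TC
import Cfsg.Agent.Lib.CosetEnum.Q24.C0
import Cfsg.Agent.Lib.CosetEnum.Q24.C1
import Cfsg.Agent.Lib.CosetEnum.Q24.C2
import Cfsg.Agent.Lib.CosetEnum.Q24.C3
import Cfsg.Agent.Lib.CosetEnum.Q24.C4
import Cfsg.Agent.Lib.CosetEnum.Q24.C5
import Cfsg.Agent.Lib.CosetEnum.Q24.C6
import Cfsg.Agent.Lib.CosetEnum.Q24.C7
set_option autoImplicit false
set_option maxRecDepth 100000
namespace H18.Q24
open H54 (Tr force band)
open H18.TC
theorem all_chk : AllLt chk 391744 := by
  have h := AllLt.zero chk
  have h := h.step 8192 p0 (by decide +kernel)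
  have h := h.step 16384 p1 (by decide +kernel)
  have h := h.step 24576 p2 (by decide +kernel)
  have h := h.step 32768 p3 (by decide +kernel)
  have h := h.step 40960 p4 (by decide +kernel)
  have h := h.step 49152 p5 (by decide +kernel)
  have h := h.step 57344 p6 (by decide +kernel)
  have h := h.step 65536 p7 (by decide +kernel)
  have h := h.step 73728 p8 (by decide +kernel)
  have h := h.step 81920 p9 (by decide +kernel)
  have h := h.step 90112 p10 (by decide +kernel)
  have h := h.step 98304 p11 (by decide +kernel)
  have h := h.step 106496 p12 (by decide +kernel)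
  have h := h.step 114688 p13 (by decide +kernel)
  have h := h.step 122880 p14 (by decide +kernel)
  have h := h.step 131072 p15 (by decide +kernel)
  have h := h.step 139264 p16 (by decide +kernel)
  have h := h.step 147456 p17 (by decide +kernel)
  have h := h.step 155648 p18 (by decide +kernel)
  have h := h.step 163840 p19 (by decide +kernel)
  have h := h.step 172032 p20 (by decide +kernel)
  have h := h.step 180224 p21 (by decide +kernel)
  have h := h.step 188416 p22 (by decide +kernel)
  have h := h.step 196608 p23 (by decide +kernel)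
  have h := h.step 204800 p24 (by decide +kernel)
  have h := h.step 212992 p25 (by decide +kernel)
  have h := h.step 221184 p26 (by decide +kernel)
  have h := h.step 229376 p27 (by decide +kernel)
  have h := h.step 237568 p28 (by decide +kernel)
  have h := h.step 245760 p29 (by decide +kernel)
  have h := h.step 253952 p30 (by decide +kernel)
  have h := h.step 262144 p31 (by decide +kernel)
  have h := h.step 270336 p32 (by decide +kernel)
  have h := h.step 278528 p33 (by decide +kernel)
  have h := h.step 286720 p34 (by decide +kernel)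
  have h := h.step 294912 p35 (by decide +kernel)
  have h := h.step 303104 p36 (by decide +kernel)
  have h := h.step 311296 p37 (by decide +kernel)
  have h := h.step 319488 p38 (by decide +kernel)
  have h := h.step 327680 p39 (by decide +kernel)
  have h := h.step 335872 p40 (by decide +kernel)
  have h := h.step 344064 p41 (by decide +kernel)
  have h := h.step 352256 p42 (by decide +kernel)
  have h := h.step 360448 p43 (by decide +kernel)
  have h := h.step 368640 p44 (by decide +kernel)
  have h := h.step 376832 p45 (by decide +kernel)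
  have h := h.step 385024 p46 (by decide +kernel)
  have h := h.step 391744 p47 (by decide +kernel)
  exact h
theorem enum {G Ω : Type*} [Group G] [MulAction G Ω] (g : ℕ → G) (ω : Ω)
    (hinv : ∀ x, g (icol x) = (g x)⁻¹) (h1 : g 12 = 1)
    (hrels : ∀ R ∈ rels, ev g R = 1) (hsubs : ∀ S ∈ subs, ev g S • ω = ω) :
    ∃ pt : ℕ → Ω, pt 0 = ω ∧ (∀ K : Subgroup G, (∀ x, g x ∈ K) → ∀ v, ∃ k ∈ K, pt v = k • ω) ∧
      ∀ x, x < 12 → ∀ u, u < 306936 → tab x u < 306936 ∧ g x • pt u = pt (tab x u) :=
  sound_scaled g ω row jrow fget sl inv icol cols (nat_lit 306936) (nat_lit 391744) (nat_lit 4398046511103) (nat_lit 524287) (nat_lit 4398046511104) (nat_lit 504) (nat_lit 546) (nat_lit 17179869183) (nat_lit 6) (nat_lit 63) (nat_lit 19) (nat_lit 524287) 19 cl (nat_lit 408) wt12 rels subs 42 (nat_lit 4796) 12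
    (fun _ => rfl) hinv h1 hrels hsubs
    (by decide +kernel) (by decide +kernel) all_chk
end H18.Q24
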